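/-
Involutions of the unipotent group of type ³D₄ in characteristic two, reduced by conjugation.
-/
import Mathlib

set_option autoImplicit false
set_option linter.unusedSectionVars false
set_option maxHeartbeats 2000000

namespace Cfsg.Agent.Chev.D4Inv

/-- Coordinates along the positive roots. -/
@[ext] structure V (F : Type*) where
  a : F
  b1 : F
  b2 : F
  b3 : F
  c1 : F
  c2 : F
  c3 : F
  d1 : F
  d2 : F
  d3 : F
  e : F
  f : F

/-- Position of a root in the normal form. -/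
def rk : ℕ → ℕ
  | 14 => 0 | 18 => 1 | 13 => 2 | 12 => 3 | 19 => 4 | 16 => 5 | 15 => 6
  | 17 => 7 | 20 => 8 | 21 => 9 | 22 => 10 | 23 => 11
  | _ => 12

/-- The pairs of noncommuting root groups. -/
def NC : List (ℕ × ℕ × ℕ) :=
  [(18, 14, 19), (13, 14, 16), (12, 14, 15),
   (16, 18, 21), (15, 18, 20), (19, 13, 21), (15, 13, 17), (19, 12, 20), (16, 12, 17),
   (17, 18, 22), (20, 13, 22), (21, 12, 22),
   (17, 19, 23), (20, 16, 23), (21, 15, 23), (22, 14, 23)]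

/-- Out of order pairs of commuting root groups. -/
def swapOK (s r : ℕ) : Bool :=
  decide (rk r < rk s) && decide (rk s < 12) && NC.all fun x => !(x.1 == s && x.2.1 == r)

variable {F : Type*} [Field F] [CharP F 2] {G : Type*} [Group G]

/-- Product of two coordinate vectors. -/
def vmul (x y : V F) : V F :=
  let t := y.a
  let c1 := x.c1 + t * x.b1
  let c2 := x.c2 + t * x.b2
  let c3 := x.c3 + t * x.b3
  let d1 := x.d1 + t * x.b2 * x.b3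
  let d2 := x.d2 + t * x.b1 * x.b3
  let d3 := x.d3 + t * x.b1 * x.b2
  let d1' := d1 + y.b2 * c3 + y.b3 * c2
  let d2' := d2 + y.b1 * c3 + y.b3 * c1
  let d3' := d3 + y.b1 * c2 + y.b2 * c1
  { a := x.a + t
    b1 := x.b1 + y.b1
    b2 := x.b2 + y.b2
    b3 := x.b3 + y.b3
    c1 := c1 + y.c1
    c2 := c2 + y.c2
    c3 := c3 + y.c3
    d1 := d1' + y.d1
    d2 := d2' + y.d2
    d3 := d3' + y.d3
    e := x.e + t * (x.b1 * x.b2 * x.b3) + y.b1 * d1 + y.b2 * d2 + y.b3 * d3 +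
      y.b1 * y.b2 * c3 + y.b1 * y.b3 * c2 + y.b2 * y.b3 * c1 + y.e
    f := x.f + t * x.e + t * (x.c1 * x.b2 * x.b3 + x.c2 * x.b1 * x.b3 + x.c3 * x.b1 * x.b2) +
      y.b1 * (c2 * c3) + y.b2 * (c1 * c3) + y.b3 * (c1 * c2) + y.c1 * d1' + y.c2 * d2' + y.c3 * d3' + y.f }

/-- The element with given coordinates. -/
def el (p : ℕ → F → G) (v : V F) : G :=
  p 14 v.a * (p 18 v.b1 * (p 13 v.b2 * (p 12 v.b3 * (p 19 v.c1 * (p 16 v.c2 * (p 15 v.c3 *
    (p 17 v.d1 * (p 20 v.d2 * (p 21 v.d3 * (p 22 v.e * (p 23 v.f * 1)))))))))))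

/-- The coordinates are compatible with the twist. -/
def Sym (φ : F →+* F) (v : V F) : Prop :=
  φ v.a = v.a ∧ φ v.b1 = v.b2 ∧ φ v.b2 = v.b3 ∧ φ v.c1 = v.c2 ∧ φ v.c2 = v.c3 ∧
    φ v.d1 = v.d2 ∧ φ v.d2 = v.d3 ∧ φ v.e = v.e ∧ φ v.f = v.f

/-- The commutator relations of the positive root elements, the two reflections and the twisted subgroup. -/
structure Rels (p : ℕ → F → G) (n₀ n₁ : G) (φ : F →+* F) (H : Subgroup G) : Prop where
  add : ∀ r t u, p r t * p r u = p r (t + u)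
  inj : ∀ v w : V F, el p v = el p w → v = w
  nc : ∀ x ∈ NC, ∀ t u, p x.1 u * p x.2.1 t = p x.2.1 t * p x.1 u * p x.2.2 (t * u)
  cm : ∀ s r, swapOK s r = true → ∀ t u, Commute (p s u) (p r t)
  m0 : ∀ r r', (r, r') ∈ [(14, 22), (22, 14), (19, 17), (17, 19), (16, 20), (20, 16), (15, 21), (21, 15), (23, 23)] →
    ∀ t, n₀ * p r t * n₀⁻¹ = p r' t
  m1 : ∀ r r', (r, r') ∈ [(18, 19), (19, 18), (13, 16), (16, 13), (12, 15), (15, 12), (17, 17), (20, 20), (21, 21),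
    (22, 23), (23, 22)] → ∀ t, n₁ * p r t * n₁⁻¹ = p r' t
  n0_mem : n₀ ∈ H
  n1_mem : n₁ ∈ H
  sym : ∀ v, el p v ∈ H → Sym φ v
  mem : ∀ v, Sym φ v → el p v ∈ H
  phi3 : ∀ t, φ (φ (φ t)) = t
  moved : ∃ w, φ w ≠ w

/-- The multiplication law. -/
theorem el_mul' {p : ℕ → F → G} (hadd : ∀ r t u, p r t * p r u = p r (t + u))
    (hnc : ∀ x ∈ NC, ∀ t u, p x.1 u * p x.2.1 t = p x.2.1 t * p x.1 u * p x.2.2 (t * u))
    (hcm : ∀ s r, swapOK s r = true → ∀ t u, Commute (p s u) (p r t)) (x y : V F) :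
    el p x * el p y = el p (vmul x y) := by
  have ad : ∀ r t u (z : G), p r t * (p r u * z) = p r (t + u) * z := fun r t u z => by rw [← mul_assoc, hadd]
  have sw : ∀ s r, swapOK s r = true → ∀ t u (z : G), p s u * (p r t * z) = 1 * (p r t * (p s u * z)) :=
    fun s r hs t u z => by rw [← mul_assoc, (hcm s r hs t u).eq, mul_assoc, one_mul]
  have nc : ∀ s r k, (s, r, k) ∈ NC → ∀ t u (z : G),
      p s u * (p r t * z) = p r t * (p s u * (p k (t * u) * z)) := fun s r k h t u z => by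
    rw [← mul_assoc, hnc _ h t u]
    simp only [mul_assoc]
  simp (discharger := decide) only [el, mul_assoc, one_mul, ad, sw,
    nc 18 14 19 (by decide), nc 13 14 16 (by decide), nc 12 14 15 (by decide),
    nc 16 18 21 (by decide), nc 15 18 20 (by decide), nc 19 13 21 (by decide),
    nc 15 13 17 (by decide), nc 19 12 20 (by decide), nc 16 12 17 (by decide),
    nc 17 18 22 (by decide), nc 20 13 22 (by decide), nc 21 12 22 (by decide),
    nc 17 19 23 (by decide), nc 20 16 23 (by decide), nc 21 15 23 (by decide),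
    nc 22 14 23 (by decide), vmul]
  ring_nf
  simp [CharTwo.two_eq_zero]

variable {p : ℕ → F → G} {n₀ n₁ : G} {φ : F →+* F} {H : Subgroup G} (R : Rels p n₀ n₁ φ H)
include R

theorem p_zero (r : ℕ) : p r (0 : F) = 1 := by
  have := R.add r 0 0
  rwa [add_zero, mul_eq_left] at this

theorem el_mul (x y : V F) : el p x * el p y = el p (vmul x y) := el_mul' R.add R.nc R.cm x y

theorem el_zero : el p (⟨0, 0, 0, 0, 0, 0, 0, 0, 0, 0, 0, 0⟩ : V F) = 1 := by simp [el, p_zero R]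

theorem invol_eqs (v : V F) (hv : el p v * el p v = 1) :
    v.a * v.b1 = 0 ∧ v.a * v.b2 = 0 ∧ v.a * v.b3 = 0 ∧
      v.a * v.b2 * v.b3 + v.b2 * (v.c3 + v.a * v.b3) + v.b3 * (v.c2 + v.a * v.b2) = 0 ∧
      (v.b1 = 0 → v.b2 = 0 → v.b3 = 0 → v.a * v.e + v.c1 * v.d1 + v.c2 * v.d2 + v.c3 * v.d3 = 0) := by
  rw [el_mul R, ← el_zero R] at hv
  have h2 := R.inj _ _ hv
  have hc1 := congrArg V.c1 h2
  have hc2 := congrArg V.c2 h2
  have hc3 := congrArg V.c3 h2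
  have hd := congrArg V.d1 h2
  have hf := congrArg V.f h2
  simp only [vmul] at hc1 hc2 hc3 hd hf
  have two : (2 : F) = 0 := CharTwo.two_eq_zero
  refine ⟨?_, ?_, ?_, ?_, fun e1 e2 e3 => ?_⟩
  · linear_combination hc1 - v.c1 * two
  · linear_combination hc2 - v.c2 * two
  · linear_combination hc3 - v.c3 * two
  · linear_combination hd - v.d1 * two
  · rw [e1, e2, e3] at hf
    linear_combination hf - v.f * two

/-- Conjugate in the twisted subgroup. -/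
def Sim (H : Subgroup G) (g g' : G) : Prop := ∃ h ∈ H, h * g * h⁻¹ = g'

theorem sim_trans {g g' g'' : G} (h₁ : Sim H g g') (h₂ : Sim H g' g'') : Sim H g g'' := by
  obtain ⟨x, hx, rfl⟩ := h₁
  obtain ⟨y, hy, rfl⟩ := h₂
  exact ⟨y * x, mul_mem hy hx, by group⟩

theorem sim_invol {g g' : G} (hs : Sim H g g') (hg : g * g = 1) : g' * g' = 1 := by
  obtain ⟨h, -, rfl⟩ := hs
  rw [show h * g * h⁻¹ * (h * g * h⁻¹) = h * (g * g) * h⁻¹ by group, hg]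
  group

theorem sim_mem {g g' : G} (hs : Sim H g g') (hg : g ∈ H) : g' ∈ H := by
  obtain ⟨h, hh, rfl⟩ := hs
  exact mul_mem (mul_mem hh hg) (inv_mem hh)

theorem sim_step {v w : V F} (hs : Sim H (el p v) (el p w)) (hv : el p v ∈ H) (hi : el p v * el p v = 1) :
    el p w ∈ H ∧ el p w * el p w = 1 := ⟨sim_mem R hs hv, sim_invol R hs hi⟩

theorem sim_vec (s v : V F) (hs : Sym φ s) (h1 : el p s * el p s = 1) :
    Sim H (el p v) (el p (vmul (vmul s v) s)) := by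
  refine ⟨el p s, R.mem s hs, ?_⟩
  rw [← el_mul R, ← el_mul R, inv_eq_of_mul_eq_one_right h1]

theorem sim_A (v : V F) (t : F) (ht : φ t = t) :
    Sim H (el p v) (el p (vmul (vmul ⟨t, 0, 0, 0, 0, 0, 0, 0, 0, 0, 0, 0⟩ v) ⟨t, 0, 0, 0, 0, 0, 0, 0, 0, 0, 0, 0⟩)) := by
  refine sim_vec R _ v (by simp [Sym, ht]) ?_
  rw [el_mul R, ← el_zero R]
  congr 1
  ext <;> simp [vmul, CharTwo.add_self_eq_zero]

theorem sim_B (v : V F) (u : F) :
    Sim H (el p v) (el p (vmul (vmul ⟨0, u, φ u, φ (φ u), 0, 0, 0, 0, 0, 0, 0, 0⟩ v)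
      ⟨0, u, φ u, φ (φ u), 0, 0, 0, 0, 0, 0, 0, 0⟩)) := by
  refine sim_vec R _ v (by simp [Sym]) ?_
  rw [el_mul R, ← el_zero R]
  congr 1
  ext <;> simp [vmul, CharTwo.add_self_eq_zero]

theorem sim_E (v : V F) (t : F) (ht : φ t = t) :
    Sim H (el p v) (el p (vmul (vmul ⟨0, 0, 0, 0, 0, 0, 0, 0, 0, 0, t, 0⟩ v) ⟨0, 0, 0, 0, 0, 0, 0, 0, 0, 0, t, 0⟩)) := by
  refine sim_vec R _ v (by simp [Sym, ht]) ?_
  rw [el_mul R, ← el_zero R]
  congr 1
  ext <;> simp [vmul, CharTwo.add_self_eq_zero]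

theorem sim_n0 (a c1 c2 c3 d1 d2 d3 e f : F) :
    Sim H (el p ⟨a, 0, 0, 0, c1, c2, c3, d1, d2, d3, e, f⟩)
      (el p ⟨e, 0, 0, 0, d1, d2, d3, c1, c2, c3, a, f + c1 * d1 + c2 * d2 + c3 * d3 + a * e⟩) := by
  refine ⟨n₀, R.n0_mem, ?_⟩
  have step : ∀ x y : G, n₀ * (x * y) * n₀⁻¹ = (n₀ * x * n₀⁻¹) * (n₀ * y * n₀⁻¹) := fun x y => by group
  have e1 : el p ⟨0, 0, 0, 0, 0, 0, 0, 0, 0, 0, a, 0⟩ * el p ⟨0, 0, 0, 0, 0, 0, 0, c1, c2, c3, 0, 0⟩ *
      el p ⟨0, 0, 0, 0, d1, d2, d3, 0, 0, 0, 0, 0⟩ * el p ⟨e, 0, 0, 0, 0, 0, 0, 0, 0, 0, 0, 0⟩ *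
      el p ⟨0, 0, 0, 0, 0, 0, 0, 0, 0, 0, 0, f⟩ =
      el p ⟨e, 0, 0, 0, d1, d2, d3, c1, c2, c3, a, f + c1 * d1 + c2 * d2 + c3 * d3 + a * e⟩ := by
    rw [el_mul R, el_mul R, el_mul R, el_mul R]
    congr 1
    ext <;> simp only [vmul] <;> ring
  rw [← e1]
  simp only [el, p_zero R, one_mul, mul_one, step]
  rw [R.m0 14 22 (by simp), R.m0 19 17 (by simp), R.m0 16 20 (by simp), R.m0 15 21 (by simp),
    R.m0 17 19 (by simp), R.m0 20 16 (by simp), R.m0 21 15 (by simp), R.m0 22 14 (by simp), R.m0 23 23 (by simp)]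
  simp only [mul_assoc]

theorem sim_n1 (b1 b2 b3 d1 d2 d3 e f : F) :
    Sim H (el p ⟨0, b1, b2, b3, 0, 0, 0, d1, d2, d3, e, f⟩) (el p ⟨0, 0, 0, 0, b1, b2, b3, d1, d2, d3, f, e⟩) := by
  refine ⟨n₁, R.n1_mem, ?_⟩
  have step : ∀ x y : G, n₁ * (x * y) * n₁⁻¹ = (n₁ * x * n₁⁻¹) * (n₁ * y * n₁⁻¹) := fun x y => by group
  simp only [el, p_zero R, one_mul, mul_one, step]
  rw [R.m1 18 19 (by simp), R.m1 13 16 (by simp), R.m1 12 15 (by simp), R.m1 17 17 (by simp),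
    R.m1 20 20 (by simp), R.m1 21 21 (by simp), R.m1 22 23 (by simp), R.m1 23 22 (by simp)]
  rw [(R.cm 23 22 (by decide) f e).eq]

/-- The trace is not zero. -/
theorem trace_onto [Finite F] (d : F) (hd : d ≠ 0) (a : F) (ha : φ a = a) :
    ∃ s : F, s * d + φ (s * d) + φ (φ (s * d)) = a := by
  obtain ⟨x, hx⟩ : ∃ x, x + φ x + φ (φ x) ≠ 0 := ⟨1, by simp [CharTwo.add_self_eq_zero]⟩
  have hT : φ (x + φ x + φ (φ x)) = x + φ x + φ (φ x) := by rw [map_add, map_add, R.phi3]; ring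
  refine ⟨x * (a / (x + φ x + φ (φ x))) / d, ?_⟩
  rw [div_mul_cancel₀ _ hd, map_mul, map_div₀, ha, hT, map_mul, map_div₀, ha, hT]
  field_simp

theorem reduce_main [Finite F] (v : V F) (hb : v.b1 = 0) (ha : v.a ≠ 0) (hm : el p v ∈ H) (hi : el p v * el p v = 1) :
    (∃ t, φ t = t ∧ t ≠ 0 ∧ Sim H (el p v) (p 23 t)) ∨
      ∃ t, t ≠ 0 ∧ Sim H (el p v) (p 17 t * p 20 (φ t) * p 21 (φ (φ t))) := by
  obtain ⟨sa, sb1, sb2, sc1, sc2, -, -, -, -⟩ := R.sym v hm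
  obtain ⟨a, b1, b2, b3, c1, c2, c3, d1, d2, d3, e, f⟩ := v
  simp only at hb ha sa sb1 sb2 sc1 sc2
  subst hb
  rw [map_zero] at sb1; subst sb1
  rw [map_zero] at sb2; subst sb2
  subst sc1 sc2
  -- clear the c's
  obtain ⟨w, hs1, wa, wb1, wc1⟩ : ∃ w : V F, Sim H (el p ⟨a, 0, 0, 0, c1, φ c1, φ (φ c1), d1, d2, d3, e, f⟩) (el p w) ∧
      w.a = a ∧ w.b1 = 0 ∧ w.c1 = 0 :=
    ⟨_, sim_B R _ (c1 / a), by simp [vmul], by simp [vmul, CharTwo.add_self_eq_zero],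
      by simp [vmul, mul_div_cancel₀ _ ha, CharTwo.add_self_eq_zero]⟩
  obtain ⟨hwm, hwi⟩ := sim_step R hs1 hm hi
  obtain ⟨ta, tb1, tb2, tc1, tc2, td1, td2, te, tf⟩ := R.sym w hwm
  have hev := (invol_eqs R w hwi).2.2.2.2
  obtain ⟨a', b1', b2', b3', c1', c2', c3', d1', d2', d3', e', f'⟩ := w
  simp only at wa wb1 wc1 ta tb1 tb2 tc1 tc2 td1 td2 te tf hev
  subst wa wb1 wc1
  rw [map_zero] at tb1 tc1; subst tb1 tc1
  rw [map_zero] at tb2 tc2; subst tb2 tc2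
  obtain rfl : e' = 0 := by simpa [ha] using hev rfl rfl rfl
  have hs2 : Sim H (el p ⟨a', 0, 0, 0, 0, 0, 0, d1', d2', d3', 0, f'⟩)
      (el p ⟨a', 0, 0, 0, 0, 0, 0, d1', d2', d3', 0, 0⟩) := by
    have := sim_E R ⟨a', 0, 0, 0, 0, 0, 0, d1', d2', d3', 0, f'⟩ (f' / a') (by rw [map_div₀, ta, tf])
    convert this using 2
    ext <;> simp [vmul, mul_div_cancel₀ _ ha, div_mul_cancel₀ _ ha, CharTwo.add_self_eq_zero]
  have hs12 := sim_trans R hs1 hs2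
  subst td1 td2
  by_cases hd : d1' = 0
  · subst hd
    simp only [map_zero] at hs12
    refine Or.inl ⟨a', ta, ha, sim_trans R hs12 (sim_trans R (sim_n0 R a' 0 0 0 0 0 0 0 0) ⟨n₁, R.n1_mem, ?_⟩)⟩
    simp [el, p_zero R, R.m1 22 23 (by simp)]
  obtain ⟨u, hu⟩ : ∃ u, φ u * φ (φ u) = d1' / a' := by
    obtain ⟨r, hr⟩ := (bijective_frobenius F 2).2 ((d1' / a') * φ (d1' / a') * φ (φ (d1' / a')))
    change r ^ 2 = _ at hr
    obtain ⟨x, hxd⟩ : ∃ x, x = d1' / a' := ⟨_, rfl⟩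
    rw [← hxd] at hr ⊢
    have hx : x ≠ 0 := hxd ▸ div_ne_zero hd ha
    have hr0 : r ≠ 0 := fun e => by
      rw [e, zero_pow two_ne_zero, eq_comm] at hr
      simp [hx] at hr
    have hφr : φ r = r := CharTwo.sq_injective (show φ r ^ 2 = r ^ 2 by
      rw [← map_pow, hr, map_mul, map_mul, R.phi3]; ring)
    refine ⟨r / x, ?_⟩
    rw [map_div₀, map_div₀, hφr, hφr, div_mul_div_comm, ← sq, hr]
    have : φ x ≠ 0 := by simpa using hx
    have : φ (φ x) ≠ 0 := by simpa using hx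
    field_simp
  have hu0 : u ≠ 0 := fun e => by simp [e, hd, ha, eq_comm] at hu
  have h' := sim_step R hs12 hm hi
  obtain ⟨w, hs3, ⟨wa, wb1, wc1, wd1⟩⟩ : ∃ w : V F, Sim H (el p ⟨a', 0, 0, 0, 0, 0, 0, d1', φ d1', φ (φ d1'), 0, 0⟩) (el p w) ∧
      w.a = a' ∧ w.b1 = 0 ∧ w.c1 = a' * u ∧ w.d1 = 0 := by
    refine ⟨_, sim_B R _ u, by simp [vmul], by simp [vmul, CharTwo.add_self_eq_zero], by simp [vmul], ?_⟩
    have e := (div_eq_iff ha).1 hu.symm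
    simp only [vmul]
    rw [e]; ring_nf; simp [CharTwo.two_eq_zero, show (4 : F) = 0 by linear_combination (2 : F) * CharTwo.two_eq_zero (R := F)]
  obtain ⟨hwm2, hwi2⟩ := sim_step R hs3 h'.1 h'.2
  obtain ⟨ta2, tb1, tb2, tc1, tc2, td1, td2, te, tf⟩ := R.sym w hwm2
  have hev := (invol_eqs R w hwi2).2.2.2.2
  obtain ⟨a2, b1', b2', b3', c1', c2', c3', e1, e2, e3, e', f2⟩ := w
  simp only at wa wb1 wc1 wd1 ta2 tb1 tb2 tc1 tc2 td1 td2 te tf hev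
  subst wa wb1 wc1 wd1
  rw [map_zero] at tb1 td1; subst tb1 td1
  rw [map_zero] at tb2 td2; subst tb2 td2
  subst tc1 tc2
  obtain rfl : e' = 0 := by simpa [ha] using hev rfl rfl rfl
  obtain ⟨c, hc⟩ : ∃ c, c = a2 * u := ⟨_, rfl⟩
  rw [← hc] at hs3
  have hs4 : Sim H (el p ⟨a2, 0, 0, 0, c, φ c, φ (φ c), 0, 0, 0, 0, f2⟩)
      (el p ⟨a2, 0, 0, 0, c, φ c, φ (φ c), 0, 0, 0, 0, 0⟩) := by
    have := sim_E R ⟨a2, 0, 0, 0, c, φ c, φ (φ c), 0, 0, 0, 0, f2⟩ (f2 / a2) (by rw [map_div₀, ta2, tf])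
    convert this using 2
    ext <;> simp [vmul, mul_div_cancel₀ _ ha, div_mul_cancel₀ _ ha, CharTwo.add_self_eq_zero]
  have hc0 : c ≠ 0 := hc ▸ mul_ne_zero ha hu0
  obtain ⟨s, hs⟩ := trace_onto R c hc0 a2 ta2
  have hs5 : Sim H (el p ⟨0, 0, 0, 0, 0, 0, 0, c, φ c, φ (φ c), a2, 0⟩)
      (el p ⟨0, 0, 0, 0, 0, 0, 0, c, φ c, φ (φ c), 0, 0⟩) := by
    have := sim_B R ⟨0, 0, 0, 0, 0, 0, 0, c, φ c, φ (φ c), a2, 0⟩ s
    convert this using 2
    ext <;> simp [vmul, CharTwo.add_self_eq_zero]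
    simp only [map_mul] at hs
    linear_combination -hs - a2 * CharTwo.two_eq_zero (R := F)
  refine Or.inr ⟨c, hc0, sim_trans R hs12 (sim_trans R hs3 (sim_trans R hs4 ?_))⟩
  have h0 := sim_n0 R a2 c (φ c) (φ (φ c)) 0 0 0 0 0
  refine sim_trans R ?_ (sim_trans R hs5 ⟨1, one_mem _, by simp [el, p_zero R, mul_assoc]⟩)
  convert h0 using 2
  ext <;> simp

theorem reduce_b0 [Finite F] (v : V F) (hb : v.b1 = 0) (hm : el p v ∈ H) (hi : el p v * el p v = 1) (hne : el p v ≠ 1) :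
    (∃ t, φ t = t ∧ t ≠ 0 ∧ Sim H (el p v) (p 23 t)) ∨
      ∃ t, t ≠ 0 ∧ Sim H (el p v) (p 17 t * p 20 (φ t) * p 21 (φ (φ t))) := by
  by_cases ha : v.a = 0
  swap
  · exact reduce_main R v hb ha hm hi
  obtain ⟨sa, sb1, sb2, sc1, sc2, sd1, sd2, se, sf⟩ := R.sym v hm
  obtain ⟨a, b1, b2, b3, c1, c2, c3, d1, d2, d3, e, f⟩ := v
  simp only at hb ha sb1 sb2 sc1 sc2 sd1 sd2 se sf
  subst hb ha
  rw [map_zero] at sb1; subst sb1
  rw [map_zero] at sb2; subst sb2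
  have go : ∀ w : V F, Sim H (el p ⟨0, 0, 0, 0, c1, c2, c3, d1, d2, d3, e, f⟩) (el p w) → w.a = 0 → w.b1 = 0 → w.e ≠ 0 →
      (∃ t, φ t = t ∧ t ≠ 0 ∧ Sim H (el p ⟨0, 0, 0, 0, c1, c2, c3, d1, d2, d3, e, f⟩) (p 23 t)) ∨
      ∃ t, t ≠ 0 ∧ Sim H (el p ⟨0, 0, 0, 0, c1, c2, c3, d1, d2, d3, e, f⟩) (p 17 t * p 20 (φ t) * p 21 (φ (φ t))) := by
    intro w hw w1 w2 w3
    obtain ⟨hwm, hwi⟩ := sim_step R hw hm hi
    obtain ⟨-, tb1, tb2, -⟩ := R.sym w hwm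
    obtain ⟨a', b1', b2', b3', c1', c2', c3', d1', d2', d3', e', f'⟩ := w
    simp only at w1 w2 w3 tb1 tb2
    subst w1 w2
    rw [map_zero] at tb1; subst tb1
    rw [map_zero] at tb2; subst tb2
    have hn := sim_n0 R 0 c1' c2' c3' d1' d2' d3' e' f'
    have hwn := sim_trans R hw hn
    obtain ⟨hm', hi'⟩ := sim_step R hwn hm hi
    rcases reduce_main R _ rfl w3 hm' hi' with ⟨t, h1, h2, h3⟩ | ⟨t, h2, h3⟩
    · exact Or.inl ⟨t, h1, h2, sim_trans R hwn h3⟩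
    · exact Or.inr ⟨t, h2, sim_trans R hwn h3⟩
  by_cases he : e = 0
  swap
  · exact go ⟨0, 0, 0, 0, c1, c2, c3, d1, d2, d3, e, f⟩ ⟨1, one_mem _, by simp⟩ rfl rfl he
  subst he sc1 sc2 sd1 sd2
  by_cases h0 : c1 = 0 ∧ d1 = 0
  · obtain ⟨rfl, rfl⟩ := h0
    simp only [map_zero] at hne ⊢
    refine Or.inl ⟨f, sf, fun hf => hne ?_, 1, one_mem _, ?_⟩
    · simp [hf, el, p_zero R]
    · simp [el, p_zero R]
  let E : F → F := fun s => s * d1 + φ (s * d1) + φ (φ (s * d1)) + s * φ s * φ (φ c1) + s * φ (φ s) * φ c1 + φ s * φ (φ s) * c1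
  obtain ⟨s, hs⟩ : ∃ s, E s ≠ 0 := by
    by_contra hall
    push Not at hall
    by_cases hc : c1 = 0
    · subst hc
      obtain ⟨s, hs⟩ := trace_onto R d1 (fun h => h0 ⟨rfl, h⟩) 1 (map_one φ)
      have := hall s
      simp only [E, map_zero, mul_zero, add_zero] at this
      exact one_ne_zero (hs.symm.trans this)
    · obtain ⟨w, hw⟩ := R.moved
      set δ := φ (c1 * w) * φ (φ c1) + φ (φ (c1 * w)) * φ c1 with hδ
      have hδ0 : δ ≠ 0 := by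
        rw [hδ]
        simp only [map_mul]
        rw [show φ c1 * φ w * φ (φ c1) + φ (φ c1) * φ (φ w) * φ c1 = φ c1 * φ (φ c1) * (φ w + φ (φ w)) by ring]
        refine mul_ne_zero (mul_ne_zero (by simpa using hc) (by simpa using hc)) fun h => hw ?_
        have := congrArg (φ ∘ φ) (CharTwo.add_eq_zero.1 h)
        simp only [Function.comp_apply, R.phi3] at this
        exact this.symm
      obtain ⟨s', hs'⟩ := trace_onto R δ hδ0 1 (map_one φ)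
      refine one_ne_zero (α := F) ?_
      rw [← hs']
      have key : E (c1 * w + s') + E (c1 * w) + E s' = s' * δ + φ (s' * δ) + φ (φ (s' * δ)) := by
        simp only [E, hδ, map_add, map_mul, R.phi3]
        ring_nf
        simp [CharTwo.two_eq_zero]
      rw [← key, hall, hall, hall, add_zero, add_zero]
  refine go _ (sim_B R _ s) (by simp [vmul]) (by simp [vmul, CharTwo.add_self_eq_zero]) ?_
  convert hs using 1
  simp only [vmul, E, map_mul]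
  ring_nf

/-- Every involution is conjugate to a long or to a short root element. -/
theorem reduce [Finite F] (v : V F) (hm : el p v ∈ H) (hi : el p v * el p v = 1) (hne : el p v ≠ 1) :
    (∃ t, φ t = t ∧ t ≠ 0 ∧ Sim H (el p v) (p 23 t)) ∨
      ∃ t, t ≠ 0 ∧ Sim H (el p v) (p 17 t * p 20 (φ t) * p 21 (φ (φ t))) := by
  by_cases hb : v.b1 = 0
  · exact reduce_b0 R v hb hm hi hne
  obtain ⟨sa, sb1, sb2, sc1, sc2, sd1, sd2, se, sf⟩ := R.sym v hm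
  obtain ⟨hab, -, -, hd, -⟩ := invol_eqs R v hi
  obtain ⟨a, b1, b2, b3, c1, c2, c3, d1, d2, d3, e, f⟩ := v
  simp only at hb sb1 sb2 sc1 sc2 hab hd
  obtain rfl : a = 0 := (mul_eq_zero.1 hab).resolve_right hb
  subst sb1 sb2 sc1 sc2
  set l := c1 / b1 with hl
  have hlf : φ l = l := by
    have hb' : φ b1 ≠ 0 := by simpa using hb
    have hb'' : φ (φ b1) ≠ 0 := by simpa using hb
    have e : φ (φ l) = φ l := by
      rw [hl, map_div₀, map_div₀, div_eq_div_iff hb'' hb']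
      refine CharTwo.add_eq_zero.1 ?_
      linear_combination hd
    have := congrArg (φ ∘ φ) e
    simp only [Function.comp_apply, R.phi3] at this
    exact this
  obtain ⟨w, hs, wa, wb, wc⟩ : ∃ w : V F,
      Sim H (el p ⟨0, b1, φ b1, φ (φ b1), c1, φ c1, φ (φ c1), d1, d2, d3, e, f⟩) (el p w) ∧
      w.a = 0 ∧ w.b1 = b1 ∧ w.c1 = 0 :=
    ⟨_, sim_A R _ l hlf, by simp [vmul, CharTwo.add_self_eq_zero], by simp [vmul],
      by simp [vmul, hl, div_mul_cancel₀ _ hb, CharTwo.add_self_eq_zero]⟩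
  obtain ⟨hwm, -⟩ := sim_step R hs hm hi
  obtain ⟨-, tb1, tb2, tc1, tc2, -⟩ := R.sym w hwm
  obtain ⟨a', b1', b2', b3', c1', c2', c3', d1', d2', d3', e', f'⟩ := w
  simp only at wa wb wc tb1 tb2 tc1 tc2
  subst wa wc
  rw [map_zero] at tc1; subst tc1
  rw [map_zero] at tc2; subst tc2
  have hsn := sim_trans R hs (sim_n1 R b1' b2' b3' d1' d2' d3' e' f')
  obtain ⟨hm', hi'⟩ := sim_step R hsn hm hi
  obtain ⟨h, -, hh⟩ := hsn
  have hsn : Sim H _ _ := sim_trans R hs (sim_n1 R b1' b2' b3' d1' d2' d3' e' f')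
  rcases reduce_b0 R _ rfl hm' hi' (fun e1 => hne (by rw [← hh, mul_inv_eq_one, mul_eq_left] at e1; exact e1)) with
    ⟨t, h1, h2, h3⟩ | ⟨t, h2, h3⟩
  · exact Or.inl ⟨t, h1, h2, sim_trans R hsn h3⟩
  · exact Or.inr ⟨t, h2, sim_trans R hsn h3⟩

end Cfsg.Agent.Chev.D4Inv
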