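/-
The two classes of involutions of ³D₄ in characteristic two.
-/
import Cfsg.Agent.Lib.Chev.Invol2.D4Reduce
import Cfsg.Agent.Lib.Chev.TwD4Thm
import Cfsg.Agent.Lib.Chev.Cent
import Cfsg.Agent.Lib.Chev.UnipCount

set_option autoImplicit false
set_option linter.unusedSectionVars false
set_option maxHeartbeats 1000000

namespace Cfsg.Agent.Chev.D4Inv

open Cfsg.Lie Cfsg.Agent.Chev

variable {K : Type*} [Field K] [CharP K 2]

local notation "𝕩" => fun r t => D4.ok.xG (F := K) r t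

theorem cast_one' (z : ℤ) (hz : z = 1 ∨ z = -1) : (z : K) = 1 := by
  rcases hz with rfl | rfl <;> simp [CharTwo.neg_eq]

theorem tables :
    (∀ x ∈ NC, x.2.1 < D4.pk.nroots ∧ x.1 < D4.pk.nroots ∧ x.1 ≠ x.2.1 ∧ x.1 ≠ D4.pk.ng x.2.1 ∧
      (D4.pk.cword x.2.1 x.1).map (fun g => (g.1, g.2.1.natAbs, g.2.2.1, g.2.2.2)) = [(x.2.2, 1, 1, 1)]) ∧
    (∀ s < 24, ∀ r < 24, swapOK s r = true → D4.pk.comm2 r s = true) ∧
    D4.pk.nroots = 24 ∧ D4.pk.rank = 4 := by decide +kernel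

theorem swap_lt {s r : ℕ} (h : swapOK s r = true) : s < 24 ∧ r < 24 := by
  simp only [swapOK, Bool.and_eq_true, decide_eq_true_eq] at h
  have key : ∀ n, rk n < 12 → n < 24 := fun n hn => by
    by_contra hc
    have : rk n = 12 := by
      unfold rk
      split <;> first | rfl | omega
    omega
  exact ⟨key s h.1.2, key r (h.1.1.trans h.1.2)⟩

theorem el_list (v : V K) : el 𝕩 v = ([(14, v.a), (18, v.b1), (13, v.b2), (12, v.b3), (19, v.c1), (16, v.c2),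
    (15, v.c3), (17, v.d1), (20, v.d2), (21, v.d3), (22, v.e), (23, v.f)].map fun x => D4.ok.xG x.1 x.2).prod := by
  simp [el]

theorem el_pos (v : V K) : el 𝕩 v ∈ chevD4.posUnipotent K := by
  simp only [el]
  repeat' apply Subgroup.mul_mem
  all_goals first | exact D4.ok.xG_mem_pos (by decide +kernel) _ | exact one_mem _

variable {q : ℕ} {φ : K →+* K}

/-- The data for the abstract reduction. -/
theorem pre_rels : (∀ r t u, 𝕩 r t * 𝕩 r u = 𝕩 r (t + u)) ∧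
    (∀ x ∈ NC, ∀ t u, 𝕩 x.1 u * 𝕩 x.2.1 t = 𝕩 x.2.1 t * 𝕩 x.1 u * 𝕩 x.2.2 (t * u)) ∧
    (∀ s r, swapOK s r = true → ∀ t u, Commute (𝕩 s u) (𝕩 r t)) := by
  obtain ⟨t1, t2, t3, -⟩ := tables
  refine ⟨D4.ok.xG_add, fun x hx t u => ?_, fun s r h t u => ?_⟩
  · obtain ⟨h1, h2, h3, h4, h5⟩ := t1 x hx
    show D4.ok.xG x.1 u * D4.ok.xG x.2.1 t = _
    rw [D4.ok.comm_xG ckComm_D4 h1 h2 h3 h4 t u]
    congr 1
    obtain ⟨⟨k, z, i, j⟩, hg, e⟩ := List.map_eq_singleton_iff.1 h5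
    rw [hg]
    simp only [Prod.mk.injEq] at e
    obtain ⟨rfl, hz, rfl, rfl⟩ := e
    simp [cast_one' (K := K) z (by omega), pow_one]
  · obtain ⟨hs, hr⟩ := swap_lt h
    exact (D4.ok.comm2_commute ckComm_D4 (t3 ▸ hr) (t3 ▸ hs) (t2 s hs r hr h) t u).symm

theorem el_closed {g : GL chevD4.Idx K} (hg : g ∈ chevD4.posUnipotent K) : ∃ v : V K, el 𝕩 v = g := by
  obtain ⟨h1, h2, h3⟩ := pre_rels (K := K)
  have hmul : ∀ x y : V K, el 𝕩 x * el 𝕩 y = el 𝕩 (vmul x y) := fun x y => by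
    refine el_mul' h1 h2 h3 x y
  have hgen : ∀ r, D4.pk.isPos r = true → ∀ t : K, ∃ v, el 𝕩 v = D4.ok.xG r t := by
    intro r hr t
    have hlist : ∀ r < 24, D4.pk.isPos r = true → r ∈ [14, 18, 13, 12, 19, 16, 15, 17, 20, 21, 22, 23] := by
      decide +kernel
    have hr24 : r < 24 := tables.2.2.1 ▸ (D4.pk.isPos_iff.1 hr).2
    have := hlist r hr24 hr
    simp only [List.mem_cons, List.not_mem_nil, or_false] at this
    rcases this with rfl | rfl | rfl | rfl | rfl | rfl | rfl | rfl | rfl | rfl | rfl | rfl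
    · exact ⟨⟨t, 0, 0, 0, 0, 0, 0, 0, 0, 0, 0, 0⟩, by simp [el, D4.ok.xG_zero]⟩
    · exact ⟨⟨0, t, 0, 0, 0, 0, 0, 0, 0, 0, 0, 0⟩, by simp [el, D4.ok.xG_zero]⟩
    · exact ⟨⟨0, 0, t, 0, 0, 0, 0, 0, 0, 0, 0, 0⟩, by simp [el, D4.ok.xG_zero]⟩
    · exact ⟨⟨0, 0, 0, t, 0, 0, 0, 0, 0, 0, 0, 0⟩, by simp [el, D4.ok.xG_zero]⟩
    · exact ⟨⟨0, 0, 0, 0, t, 0, 0, 0, 0, 0, 0, 0⟩, by simp [el, D4.ok.xG_zero]⟩
    · exact ⟨⟨0, 0, 0, 0, 0, t, 0, 0, 0, 0, 0, 0⟩, by simp [el, D4.ok.xG_zero]⟩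
    · exact ⟨⟨0, 0, 0, 0, 0, 0, t, 0, 0, 0, 0, 0⟩, by simp [el, D4.ok.xG_zero]⟩
    · exact ⟨⟨0, 0, 0, 0, 0, 0, 0, t, 0, 0, 0, 0⟩, by simp [el, D4.ok.xG_zero]⟩
    · exact ⟨⟨0, 0, 0, 0, 0, 0, 0, 0, t, 0, 0, 0⟩, by simp [el, D4.ok.xG_zero]⟩
    · exact ⟨⟨0, 0, 0, 0, 0, 0, 0, 0, 0, t, 0, 0⟩, by simp [el, D4.ok.xG_zero]⟩
    · exact ⟨⟨0, 0, 0, 0, 0, 0, 0, 0, 0, 0, t, 0⟩, by simp [el, D4.ok.xG_zero]⟩
    · exact ⟨⟨0, 0, 0, 0, 0, 0, 0, 0, 0, 0, 0, t⟩, by simp [el, D4.ok.xG_zero]⟩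
  obtain ⟨t, rfl⟩ := D4.ok.pos_normal_form ckComm_D4 hg
  have key : ∀ L : List ℕ, (∀ r ∈ L, D4.pk.isPos r = true) →
      ∃ v : V K, el 𝕩 v = (L.map fun r => D4.ok.xG r (t r)).prod := by
    intro L hL
    induction L with
    | nil => exact ⟨⟨0, 0, 0, 0, 0, 0, 0, 0, 0, 0, 0, 0⟩, by simp [el, D4.ok.xG_zero]⟩
    | cons r L ih =>
      obtain ⟨v, hv⟩ := ih fun x hx => hL x (List.mem_cons_of_mem _ hx)
      obtain ⟨w, hw⟩ := hgen r (hL r List.mem_cons_self) (t r)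
      exact ⟨vmul w v, by rw [List.map_cons, List.prod_cons, ← hmul, hv, hw]⟩
  exact key _ fun r hr => mem_posL.1 hr

theorem el_inj [Fintype K] (v w : V K) (e : el 𝕩 v = el 𝕩 w) : v = w := by
  classical
  let eqv : (Fin 12 → K) ≃ V K :=
    { toFun := fun g => ⟨g 0, g 1, g 2, g 3, g 4, g 5, g 6, g 7, g 8, g 9, g 10, g 11⟩
      invFun := fun v => ![v.a, v.b1, v.b2, v.b3, v.c1, v.c2, v.c3, v.d1, v.d2, v.d3, v.e, v.f]
      left_inv := fun g => by funext i; fin_cases i <;> rfl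
      right_inv := fun v => rfl }
  haveI : Finite (V K) := Finite.of_equiv _ eqv
  let f : V K → chevD4.posUnipotent K := fun v => ⟨el 𝕩 v, el_pos v⟩
  have hs : Function.Surjective f := fun g => by
    obtain ⟨v, hv⟩ := el_closed g.2
    exact ⟨v, Subtype.ext hv⟩
  have hcard : Nat.card (V K) = Nat.card (chevD4.posUnipotent K) := by
    rw [← Nat.card_congr eqv, D4.ok.card_pos ckComm_D4, tables.2.2.1, Nat.card_fun, Nat.card_eq_fintype_card,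
      Nat.card_eq_fintype_card, Fintype.card_fin]
  exact ((Nat.bijective_iff_surjective_and_card f).2 ⟨hs, hcard⟩).1 (Subtype.ext e)

variable (hφ : ∀ t, φ t = t ^ q) [Fintype K] (hK : Fintype.card K = q ^ 3) (hq : IsPrimePow q)

include hφ hK hq in
theorem exists_moved : ∃ w, φ w ≠ w := by
  by_contra hall
  push Not at hall
  obtain ⟨e, -⟩ := Std.fixed_field_card (F := K) hq.two_le (by omega : 1 ≤ 3) hK
  have hb : Function.Bijective (fun t : {t : K // t ^ q = t} => t.1) :=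
    ⟨Subtype.val_injective, fun t => ⟨⟨t, (hφ t).symm.trans (hall t)⟩, rfl⟩⟩
  have := Nat.card_eq_of_bijective _ hb
  rw [e, Nat.card_eq_fintype_card, hK] at this
  have h2 := hq.two_le
  nlinarith [Nat.pow_le_pow_left h2 2]

theorem sigma_el (v : V K) : (TwD4.T φ).σ (el 𝕩 v) =
    el 𝕩 ⟨φ v.a, φ v.b3, φ v.b1, φ v.b2, φ v.c3, φ v.c1, φ v.c2, φ v.d3, φ v.d1, φ v.d2, φ v.e, φ v.f⟩ := by
  have hr : [14, 18, 13, 12, 19, 16, 15, 17, 20, 21, 22, 23].map gD4a.rr =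
      [14, 13, 12, 18, 16, 15, 19, 20, 21, 17, 22, 23] := by decide +kernel
  simp only [List.map_cons, List.map_nil, List.cons.injEq, and_true] at hr
  obtain ⟨r1, r2, r3, r4, r5, r6, r7, r8, r9, r10, r11, r12⟩ := hr
  have hs : ∀ r < 24, ∀ t : K, (TwD4.T φ).σ (D4.ok.xG r t) = D4.ok.xG (gD4a.rr r) (φ t) := by
    intro r hr t
    rw [(TwD4.T φ).σ_xG r (tables.2.2.1.symm ▸ hr)]
    show D4.ok.xG _ ((gD4a.eps r : K) * φ t) = _
    rw [cast_one' (K := K) (gD4a.eps r) (by unfold Gph.eps; cases gD4a.negs.any (Nat.beq r) <;> simp), one_mul]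
    rfl
  have hm : ∀ r (t : K) (z : GL chevD4.Idx K), z ∈ chevD4.group K →
      (TwD4.T φ).σ (D4.ok.xG r t * z) = (TwD4.T φ).σ (D4.ok.xG r t) * (TwD4.T φ).σ z := fun r t z hz =>
    (TwD4.T φ).map_mul' _ (D4.ok.mem_group_of_xG _ _) _ hz
  have hg : ∀ r (t : K) (z : GL chevD4.Idx K), z ∈ chevD4.group K → D4.ok.xG r t * z ∈ chevD4.group K :=
    fun r t z hz => mul_mem (D4.ok.mem_group_of_xG _ _) hz
  have hone : (1 : GL chevD4.Idx K) ∈ chevD4.group K := one_mem _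
  simp (discharger := first | exact hone | (repeat' apply hg) <;> exact hone | omega) only [el, hm, hs, r1, r2, r3,
    r4, r5, r6, r7, r8, r9, r10, r11, r12, Twist.map_one]
  obtain ⟨-, -, h3⟩ := pre_rels (K := K)
  congr 1
  rw [← mul_assoc (D4.ok.xG 12 _) (D4.ok.xG 18 _), (h3 12 18 (by decide) _ _).eq, mul_assoc,
    ← mul_assoc (D4.ok.xG 13 _) (D4.ok.xG 18 _), (h3 13 18 (by decide) _ _).eq, mul_assoc]
  congr 3
  rw [← mul_assoc (D4.ok.xG 15 _) (D4.ok.xG 19 _), (h3 15 19 (by decide) _ _).eq, mul_assoc,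
    ← mul_assoc (D4.ok.xG 16 _) (D4.ok.xG 19 _), (h3 16 19 (by decide) _ _).eq, mul_assoc]
  congr 3
  rw [← mul_assoc (D4.ok.xG 21 _) (D4.ok.xG 17 _), (h3 21 17 (by decide) _ _).eq, mul_assoc,
    ← mul_assoc (D4.ok.xG 20 _) (D4.ok.xG 17 _), (h3 20 17 (by decide) _ _).eq, mul_assoc]

variable (G : TwistGrp (TwD4.T φ)) (hG : G.G1 = twistedD4 K q) (hO : G.O.orbs = D4.orbsT)

include hφ hK hq hG hO in
theorem rels : Rels 𝕩 (D4.ok.nW [0, 2, 3]) (D4.ok.nW [1]) φ (twistedD4 K q) := by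
  obtain ⟨h1, h2, h3⟩ := pre_rels (K := K)
  have hmove : ∀ l, (∀ x ∈ l, x < 4) → ∀ r r', r < 24 → wl D4.pk l r = r' → ∀ t : K,
      D4.ok.nW l * D4.ok.xG r t * (D4.ok.nW l)⁻¹ = D4.ok.xG r' t := by
    intro l hl r r' hr e t
    obtain ⟨σ, hσ, hx⟩ := D4.ok.nW_xG (F := K) l (fun i hi => tables.2.2.2.symm ▸ hl i hi) r (tables.2.2.1.symm ▸ hr)
    have : σ = 1 := CharTwo.sq_injective (show σ ^ 2 = 1 ^ 2 by rw [one_pow, sq, hσ])
    rw [(hx t).1, this, one_mul, e]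
  refine ⟨h1, el_inj, h2, h3, fun r r' hr => ?_, fun r r' hr => ?_, ?_, ?_, fun v hv => ?_, fun v hv => ?_,
    TwD4.phi3 φ hφ hK, exists_moved hφ hK hq⟩
  · have ht : ∀ x ∈ [(14, 22), (22, 14), (19, 17), (17, 19), (16, 20), (20, 16), (15, 21), (21, 15), (23, 23)],
        x.1 < 24 ∧ wl D4.pk [0, 2, 3] x.1 = x.2 := by decide +kernel
    exact hmove _ (by decide) r r' (ht _ hr).1 (ht _ hr).2
  · have ht : ∀ x ∈ [(18, 19), (19, 18), (13, 16), (16, 13), (12, 15), (15, 12), (17, 17), (20, 20), (21, 21),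
        (22, 23), (23, 22)], x.1 < 24 ∧ wl D4.pk [1] x.1 = x.2 := by decide +kernel
    exact hmove _ (by decide) r r' (ht _ hr).1 (ht _ hr).2
  · exact hG ▸ G.nW_mem ([0, 2, 3], [0, 2, 3]) (by rw [hO]; decide)
  · exact hG ▸ G.nW_mem ([1], [1]) (by rw [hO]; decide)
  · rw [← hG, G.eq_fixed ckComm_D4, Twist.mem_fixed] at hv
    have e := el_inj _ _ ((sigma_el (φ := φ) v).symm.trans hv.2)
    obtain ⟨a, b1, b2, b3, c1, c2, c3, d1, d2, d3, e', f⟩ := v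
    simp only [V.mk.injEq] at e
    obtain ⟨ea, -, e2, e3, -, e5, e6, -, e8, e9, e10, e11⟩ := e
    exact ⟨ea, e2, e3, e5, e6, e8, e9, e10, e11⟩
  · rw [← hG, G.eq_fixed ckComm_D4, Twist.mem_fixed]
    refine ⟨D4.ok.borel_le_group (Subgroup.mem_sup_left (el_pos v)), ?_⟩
    rw [sigma_el]
    obtain ⟨ea, e2, e3, e5, e6, e8, e9, e10, e11⟩ := hv
    congr 1
    have p3 := TwD4.phi3 φ hφ hK
    ext <;> simp only [ea, e10, e11, ← e2, ← e3, ← e5, ← e6, ← e8, ← e9, p3]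

include hφ hK hq hG hO in
/-- Every involution is conjugate to one of the two root involutions. -/
theorem exists_class {g : GL chevD4.Idx K} (hg : g ∈ twistedD4 K q) (ho : orderOf g = 2) :
    ∃ r : GL chevD4.Idx K, (r = D4.ok.xG 23 1 ∨ r = D4.ok.xG 17 1 * D4.ok.xG 20 1 * D4.ok.xG 21 1) ∧
      ∃ x ∈ twistedD4 K q, x * g * x⁻¹ = r := by
  classical
  haveI : Fact (Nat.Prime 2) := ⟨Nat.prime_two⟩
  -- the fixed positive unipotent group is a Sylow subgroup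
  set U : Subgroup (twistedD4 K q) := (chevD4.posUnipotent K ⊓ (TwD4.T φ).fixed).subgroupOf (twistedD4 K q)
  have hle : chevD4.posUnipotent K ⊓ (TwD4.T φ).fixed ≤ twistedD4 K q := hG ▸ G.pos_fixed_le ckComm_D4
  have hUc : Nat.card U = q ^ 12 := by
    rw [Nat.card_congr (Subgroup.subgroupOfEquivOfLe hle).toEquiv, TwD4.card_pos hφ hK hq G hO]
  obtain ⟨k, -, hq2⟩ : ∃ k, 1 ≤ k ∧ q = 2 ^ k := by
    obtain ⟨n, -, hn⟩ := FiniteField.card K 2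
    have : q ∣ 2 ^ (n : ℕ) := by rw [← hn, hK]; exact dvd_pow_self q (by omega)
    obtain ⟨k, -, rfl⟩ := (Nat.dvd_prime_pow Nat.prime_two).1 this
    exact ⟨k, Nat.one_le_iff_ne_zero.2 fun e => hq.one_lt.ne' (by rw [e, pow_zero]), rfl⟩
  have hU : IsPGroup 2 U := IsPGroup.of_card (n := k * 12) (by rw [hUc, hq2, pow_mul])
  have hidx : ¬ 2 ∣ U.index := by
    have h := U.card_mul_index
    rw [hUc, TwD4.order_eq hφ hK hq G hG hO, mul_assoc, mul_assoc] at h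
    rw [Nat.eq_of_mul_eq_mul_left (pow_pos hq.pos _) h]
    have heven : Even q := by rw [hq2]; exact Nat.even_pow.2 ⟨even_two, by rintro rfl; simp at hq2; exact hq.one_lt.ne' hq2⟩
    have h1 : ∀ n, 1 ≤ n → ¬ 2 ∣ q ^ n - 1 := fun n hn hd => by
      have e1 : 1 ≤ q ^ n := Nat.one_le_pow _ _ hq.pos
      have e2 : 2 ∣ q ^ n := (heven.two_dvd).trans (dvd_pow_self q (by omega))
      omega
    refine fun hd => ?_
    rcases (Nat.Prime.dvd_mul Nat.prime_two).1 hd with hd | hd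
    · exact h1 2 (by omega) hd
    rcases (Nat.Prime.dvd_mul Nat.prime_two).1 hd with hd | hd
    · exact h1 6 (by omega) hd
    have e2 : 2 ∣ q ^ 8 + q ^ 4 := dvd_add ((heven.two_dvd).trans (dvd_pow_self q (by omega)))
      ((heven.two_dvd).trans (dvd_pow_self q (by omega)))
    omega
  set g' : twistedD4 K q := ⟨g, hg⟩
  have hp : IsPGroup 2 (Subgroup.zpowers g') := by
    refine IsPGroup.of_card (n := 1) ?_
    rw [Nat.card_zpowers, pow_one, ← ho, ← Subgroup.orderOf_coe]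
  obtain ⟨T, hT⟩ := hp.exists_le_sylow
  obtain ⟨x, hx⟩ := MulAction.exists_smul_eq (twistedD4 K q) T (hU.toSylow hidx)
  have hxU : x * g' * x⁻¹ ∈ U := by
    have h1 : x * g' * x⁻¹ ∈ ((x • T : Sylow 2 (twistedD4 K q)) : Subgroup (twistedD4 K q)) := by
      rw [Sylow.coe_subgroup_smul, Subgroup.mem_pointwise_smul_iff_inv_smul_mem]
      simpa [mul_assoc] using hT (Subgroup.mem_zpowers g')
    rw [hx] at h1
    exact h1
  obtain ⟨v, hv⟩ := el_closed (Subgroup.mem_subgroupOf.1 hxU).1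
  push_cast at hv
  change _ = (x : GL chevD4.Idx K) * g * (x : GL chevD4.Idx K)⁻¹ at hv
  have hsq : el 𝕩 v * el 𝕩 v = (1 : GL chevD4.Idx K) := by
    rw [hv, show (x : GL chevD4.Idx K) * g * (x : GL chevD4.Idx K)⁻¹ * ((x : GL chevD4.Idx K) * g * (x : GL chevD4.Idx K)⁻¹) =
      x * (g * g) * (x : GL chevD4.Idx K)⁻¹ by group, ← pow_two, ← ho, pow_orderOf_eq_one]
    group
  have hne : el 𝕩 v ≠ (1 : GL chevD4.Idx K) := by
    rw [hv]
    intro e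
    have : g = 1 := by simpa using e
    rw [this, orderOf_one] at ho
    omega
  have R := rels hφ hK hq G hG hO
  have hscale : ∀ c : Fin 4 → Kˣ, (TwD4.T φ).τ c = c → TwD4.hH c ∈ twistedD4 K q := fun c hc =>
    TwD4.hHom_fixed_mem φ hφ hc
  have hA : [17, 20, 21, 23].map (fun r => (List.range 4).map fun i => D4.pk.A i r) =
      [[-1, 0, 1, 1], [1, 0, -1, 1], [1, 0, 1, -1], [0, 1, 0, 0]] := by decide +kernel
  simp [List.range_succ] at hA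
  obtain ⟨⟨a0, a1, a2, a3⟩, ⟨b0, b1, b2, b3⟩, ⟨c0, c1, c2, c3⟩, ⟨d0, d1, d2, d3⟩⟩ := hA
  have p3 := TwD4.phi3 φ hφ hK
  rcases reduce R v (hv ▸ mul_mem (mul_mem x.2 hg) (inv_mem x.2)) hsq hne with ⟨t, ht, ht0, y, hy, e⟩ | ⟨t, ht0, y, hy, e⟩
  · rw [hv] at e
    set c : Fin 4 → Kˣ := ![1, (Units.mk0 t ht0)⁻¹, 1, 1] with hc
    have hτ : (TwD4.T φ).τ c = c := by
      refine (TwD4.tau_apply φ _).trans ?_
      funext k
      fin_cases k <;> apply Units.ext <;> simp [hc, ht]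
    have hch : hchar D4.pk c 23 = t⁻¹ := by
      show ∏ i : Fin 4, _ = _
      rw [Fin.prod_univ_four]
      simp [hc, d0, d1, d2, d3]
    refine ⟨_, Or.inl rfl, TwD4.hH c * y * x, mul_mem (mul_mem (hscale c hτ) hy) x.2, ?_⟩
    have e2 : TwD4.hH c * D4.ok.xG 23 t * (TwD4.hH c)⁻¹ = D4.ok.xG 23 1 := by
      rw [show TwD4.hH c * D4.ok.xG 23 t * (TwD4.hH c)⁻¹ = D4.ok.xG 23 (hchar D4.pk c 23 * t) from
        D4.ok.hHom_xG c (by decide) t, hch, inv_mul_cancel₀ ht0]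
    rw [← e2]
    rw [← e]
    group
  · rw [hv] at e
    let f : Kˣ →* Kˣ := Units.map φ.toMonoidHom
    let m : Kˣ →* Kˣ := f * f.comp f * (MonoidHom.id Kˣ)⁻¹
    have hm : Function.Surjective m := by
      refine Finite.surjective_of_injective ((injective_iff_map_eq_one m).2 fun w hw => ?_)
      have h1 : φ (w : K) * φ (φ (w : K)) = (w : K) := by
        have := congrArg Units.val (mul_inv_eq_one.1 hw)
        simpa [f] using this
      have h2 : φ (φ (w : K)) * w = φ (w : K) := by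
        have := congrArg φ h1
        rwa [map_mul, p3] at this
      have h3 : φ (w : K) = w :=
        CharTwo.sq_injective (show φ (w : K) ^ 2 = (w : K) ^ 2 by linear_combination (w : K) * h1 - φ (w : K) * h2)
      rw [h3, h3] at h1
      exact Units.ext (mul_left_cancel₀ w.ne_zero (h1.trans (mul_one _).symm))
    obtain ⟨z, hz⟩ := hm (Units.mk0 t ht0)⁻¹
    set c : Fin 4 → Kˣ :=
      ![z, 1, Units.map φ.toMonoidHom z, Units.map φ.toMonoidHom (Units.map φ.toMonoidHom z)] with hc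
    have hτ : (TwD4.T φ).τ c = c := by
      refine (TwD4.tau_apply φ _).trans ?_
      funext k
      fin_cases k <;> apply Units.ext <;> simp [hc, p3]
    have hzv : φ (z : K) * φ (φ (z : K)) * (z : K)⁻¹ = t⁻¹ := by simpa [m, f] using congrArg Units.val hz
    have ch : hchar D4.pk c 17 = t⁻¹ ∧ hchar D4.pk c 20 = φ t⁻¹ ∧ hchar D4.pk c 21 = φ (φ t⁻¹) := by
      refine ⟨?_, ?_, ?_⟩ <;> (show ∏ i : Fin 4, _ = _; rw [Fin.prod_univ_four, ← hzv])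
      · simp [hc, a0, a1, a2, a3, ]; try ring
      · simp [hc, b0, b1, b2, b3, p3]; try ring
      · simp [hc, c0, c1, c2, c3, p3]; try ring
    refine ⟨_, Or.inr rfl, TwD4.hH c * y * x, mul_mem (mul_mem (hscale c hτ) hy) x.2, ?_⟩
    have conj3 : ∀ d a b c : GL chevD4.Idx K, d * (a * b * c) * d⁻¹ = (d * a * d⁻¹) * (d * b * d⁻¹) * (d * c * d⁻¹) :=
      fun d a b c => by group
    have hx : ∀ r, r < D4.pk.nroots → ∀ s : K, TwD4.hH c * D4.ok.xG r s * (TwD4.hH c)⁻¹ =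
        D4.ok.xG r (hchar D4.pk c r * s) := fun r hr s => D4.ok.hHom_xG c hr s
    have e2 : TwD4.hH c * (D4.ok.xG 17 t * D4.ok.xG 20 (φ t) * D4.ok.xG 21 (φ (φ t))) * (TwD4.hH c)⁻¹ =
        D4.ok.xG 17 1 * D4.ok.xG 20 1 * D4.ok.xG 21 1 := by
      rw [conj3, hx 17 (by decide), hx 20 (by decide), hx 21 (by decide), ch.1, ch.2.1, ch.2.2]
      simp [inv_mul_cancel₀ ht0, ht0]
    rw [← e2]
    rw [← e]
    group

theorem long_short {g : GL chevD4.Idx K} (hg : g ∈ chevD4.group K) :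
    g * D4.ok.xG 23 (1 : K) * g⁻¹ ≠ D4.ok.xG 17 1 * D4.ok.xG 20 1 * D4.ok.xG 21 1 := by
  intro e
  have hall : ∀ s < D4.pk.nroots, D4.pk.isPos s = true → D4.pk.comm2 23 s = true := by decide +kernel
  obtain ⟨b, hb, l, hl, u, hu, rfl⟩ := D4.ok.bruhat_exists ckComm_D4 hg
  have hu' := D4.ok.negS_le_pos l hu
  obtain ⟨v, hv, d, hd, rfl⟩ := D4.ok.mem_borel hb
  obtain ⟨c, rfl⟩ := D4.ok.mem_diagonal_iff.1 hd
  obtain ⟨σ, hσ, hx⟩ := D4.ok.nW_xG (F := K) l hl 23 (by decide +kernel)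
  have hs := D4.ok.wl_lt l hl 23 (by decide +kernel)
  set s := wl D4.pk l 23 with hs_def
  set k : K := hchar D4.pk c s * (σ * 1)
  have hk : k ≠ 0 := mul_ne_zero ((D4.ok.isChar_hchar c).ne s hs) (mul_ne_zero (fun e => by simp [e] at hσ) one_ne_zero)
  have hcu : u * D4.ok.xG 23 (1 : K) * u⁻¹ = D4.ok.xG 23 1 := by
    rw [← (D4.ok.commute_pos ckComm_D4 (by decide +kernel) hall 1 hu').eq, mul_inv_cancel_right]
  have key : v * D4.ok.xG s k * v⁻¹ = D4.ok.xG 17 1 * D4.ok.xG 20 1 * D4.ok.xG 21 1 := by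
    rw [← e, ← D4.ok.hHom_xG c hs, ← (hx 1).1]
    nth_rewrite 1 [← hcu]
    group
  set D : V K := ⟨0, 0, 0, 0, 0, 0, 0, 1, 1, 1, 0, 0⟩
  have hD : el 𝕩 D = D4.ok.xG 17 (1 : K) * D4.ok.xG 20 1 * D4.ok.xG 21 1 := by simp [el, D, D4.ok.xG_zero, mul_assoc]
  have hsU : D4.ok.xG s k ∈ chevD4.posUnipotent K := by
    rw [show D4.ok.xG s k = v⁻¹ * el 𝕩 D * v by rw [hD, ← key]; group]
    exact mul_mem (mul_mem (inv_mem hv) (el_pos D)) hv
  have hp : D4.pk.isPos s = true := by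
    by_contra hp
    have h1 : D4.ok.xG s k ∈ chevD4.borelSubgroup K ⊓ chevD4.negUnipotent K :=
      ⟨Subgroup.mem_sup_left hsU, D4.ok.xG_mem_neg hs (by simpa using hp) k⟩
    rw [D4.ok.borel_inf_neg, Subgroup.mem_bot, ← D4.ok.xG_zero s] at h1
    exact hk (D4.ok.xG_inj_param hs h1)
  obtain ⟨w, hw⟩ := el_closed hv
  have e2 : el 𝕩 D * v = v * D4.ok.xG s k := by rw [hD, ← key]; group
  rw [← hw] at e2
  have hlist : ∀ r < 24, D4.pk.isPos r = true → r ∈ [14, 18, 13, 12, 19, 16, 15, 17, 20, 21, 22, 23] := by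
    decide +kernel
  have hm := hlist s (tables.2.2.1 ▸ hs) hp
  obtain ⟨h1, h2, h3⟩ := pre_rels (K := K)
  have z := fun r => D4.ok.xG_zero (F := K) r
  simp only [List.mem_cons, List.not_mem_nil, or_false] at hm
  rcases hm with h | h | h | h | h | h | h | h | h | h | h | h <;> rw [h] at e2
  · rw [show D4.ok.xG 14 k = el 𝕩 ⟨k, 0, 0, 0, 0, 0, 0, 0, 0, 0, 0, 0⟩ by simp [el, z], el_mul' h1 h2 h3,
      el_mul' h1 h2 h3] at e2
    simpa [vmul, D, hk] using congrArg V.a (el_inj _ _ e2)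
  · rw [show D4.ok.xG 18 k = el 𝕩 ⟨0, k, 0, 0, 0, 0, 0, 0, 0, 0, 0, 0⟩ by simp [el, z], el_mul' h1 h2 h3,
      el_mul' h1 h2 h3] at e2
    simpa [vmul, D, hk] using congrArg V.b1 (el_inj _ _ e2)
  · rw [show D4.ok.xG 13 k = el 𝕩 ⟨0, 0, k, 0, 0, 0, 0, 0, 0, 0, 0, 0⟩ by simp [el, z], el_mul' h1 h2 h3,
      el_mul' h1 h2 h3] at e2
    simpa [vmul, D, hk] using congrArg V.b2 (el_inj _ _ e2)
  · rw [show D4.ok.xG 12 k = el 𝕩 ⟨0, 0, 0, k, 0, 0, 0, 0, 0, 0, 0, 0⟩ by simp [el, z], el_mul' h1 h2 h3,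
      el_mul' h1 h2 h3] at e2
    simpa [vmul, D, hk] using congrArg V.b3 (el_inj _ _ e2)
  · rw [show D4.ok.xG 19 k = el 𝕩 ⟨0, 0, 0, 0, k, 0, 0, 0, 0, 0, 0, 0⟩ by simp [el, z], el_mul' h1 h2 h3,
      el_mul' h1 h2 h3] at e2
    simpa [vmul, D, hk] using congrArg V.c1 (el_inj _ _ e2)
  · rw [show D4.ok.xG 16 k = el 𝕩 ⟨0, 0, 0, 0, 0, k, 0, 0, 0, 0, 0, 0⟩ by simp [el, z], el_mul' h1 h2 h3,
      el_mul' h1 h2 h3] at e2
    simpa [vmul, D, hk] using congrArg V.c2 (el_inj _ _ e2)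
  · rw [show D4.ok.xG 15 k = el 𝕩 ⟨0, 0, 0, 0, 0, 0, k, 0, 0, 0, 0, 0⟩ by simp [el, z], el_mul' h1 h2 h3,
      el_mul' h1 h2 h3] at e2
    simpa [vmul, D, hk] using congrArg V.c3 (el_inj _ _ e2)
  · rw [show D4.ok.xG 17 k = el 𝕩 ⟨0, 0, 0, 0, 0, 0, 0, k, 0, 0, 0, 0⟩ by simp [el, z], el_mul' h1 h2 h3,
      el_mul' h1 h2 h3] at e2
    simpa [vmul, D] using congrArg V.d2 (el_inj _ _ e2)
  · rw [show D4.ok.xG 20 k = el 𝕩 ⟨0, 0, 0, 0, 0, 0, 0, 0, k, 0, 0, 0⟩ by simp [el, z], el_mul' h1 h2 h3,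
      el_mul' h1 h2 h3] at e2
    simpa [vmul, D] using congrArg V.d1 (el_inj _ _ e2)
  · rw [show D4.ok.xG 21 k = el 𝕩 ⟨0, 0, 0, 0, 0, 0, 0, 0, 0, k, 0, 0⟩ by simp [el, z], el_mul' h1 h2 h3,
      el_mul' h1 h2 h3] at e2
    simpa [vmul, D] using congrArg V.d1 (el_inj _ _ e2)
  · rw [show D4.ok.xG 22 k = el 𝕩 ⟨0, 0, 0, 0, 0, 0, 0, 0, 0, 0, k, 0⟩ by simp [el, z], el_mul' h1 h2 h3,
      el_mul' h1 h2 h3] at e2
    simpa [vmul, D] using congrArg V.d1 (el_inj _ _ e2)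
  · rw [show D4.ok.xG 23 k = el 𝕩 ⟨0, 0, 0, 0, 0, 0, 0, 0, 0, 0, 0, k⟩ by simp [el, z], el_mul' h1 h2 h3,
      el_mul' h1 h2 h3] at e2
    simpa [vmul, D] using congrArg V.d1 (el_inj _ _ e2)

include hφ hK hq hG hO in
theorem ncard_eq : (ConjClasses.mk '' {g : ↥(twistedD4 K q) | orderOf g = 2}).ncard = 2 := by
  haveI : Fact (Nat.Prime 2) := ⟨Nat.prime_two⟩
  have R := rels hφ hK hq G hG hO
  have inv2 : ∀ v : V K, Sym φ v → vmul v v = ⟨0, 0, 0, 0, 0, 0, 0, 0, 0, 0, 0, 0⟩ →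
      v ≠ ⟨0, 0, 0, 0, 0, 0, 0, 0, 0, 0, 0, 0⟩ → ∀ hv : el 𝕩 v ∈ twistedD4 K q,
      orderOf (⟨el 𝕩 v, hv⟩ : ↥(twistedD4 K q)) = 2 := by
    intro v _ h2 hne hv
    refine orderOf_eq_prime (Subtype.ext ?_) fun e => hne (el_inj _ _ ?_)
    · rw [Subgroup.coe_pow, Subgroup.coe_one, sq]
      show el 𝕩 v * el 𝕩 v = 1
      rw [el_mul R, h2, el_zero R]
    · rw [el_zero R]; exact congrArg Subtype.val e
  set v₁ : V K := ⟨0, 0, 0, 0, 0, 0, 0, 0, 0, 0, 0, 1⟩ with hv₁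
  set v₂ : V K := ⟨0, 0, 0, 0, 0, 0, 0, 1, 1, 1, 0, 0⟩ with hv₂
  have s1 : Sym φ v₁ := by simp [Sym, hv₁]
  have s2 : Sym φ v₂ := by simp [Sym, hv₂]
  have e1 : el 𝕩 v₁ = D4.ok.xG 23 (1 : K) := by simp [el, hv₁, D4.ok.xG_zero]
  have e2 : el 𝕩 v₂ = D4.ok.xG 17 (1 : K) * D4.ok.xG 20 1 * D4.ok.xG 21 1 := by
    simp [el, hv₂, D4.ok.xG_zero, mul_assoc]
  set A : ↥(twistedD4 K q) := ⟨_, R.mem v₁ s1⟩
  set B : ↥(twistedD4 K q) := ⟨_, R.mem v₂ s2⟩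
  have hA2 : orderOf A = 2 := inv2 v₁ s1 (by ext <;> simp [vmul, hv₁, CharTwo.add_self_eq_zero])
    (fun e => by simpa [hv₁] using congrArg V.f e) _
  have hB2 : orderOf B = 2 := inv2 v₂ s2 (by ext <;> simp [vmul, hv₂, CharTwo.add_self_eq_zero])
    (fun e => by simpa [hv₂] using congrArg V.d1 e) _
  have hne : ConjClasses.mk A ≠ ConjClasses.mk B := fun e => by
    obtain ⟨c, hc⟩ := isConj_iff.1 (ConjClasses.mk_eq_mk_iff_isConj.1 e)
    have hc' : (c : GL chevD4.Idx K) * el 𝕩 v₁ * (c : GL chevD4.Idx K)⁻¹ = el 𝕩 v₂ := congrArg Subtype.val hc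
    rw [e1, e2] at hc'
    refine long_short ?_ hc'
    exact ((TwD4.T φ).mem_fixed.1 (G.le_fixed (show (c : GL chevD4.Idx K) ∈ G.G1 from hG.symm ▸ c.2))).1
  have hset : ConjClasses.mk '' {g : ↥(twistedD4 K q) | orderOf g = 2} = {ConjClasses.mk A, ConjClasses.mk B} := by
    refine Set.Subset.antisymm ?_ (Set.insert_subset_iff.2 ⟨⟨A, hA2, rfl⟩, Set.singleton_subset_iff.2 ⟨B, hB2, rfl⟩⟩)
    rintro _ ⟨g, hg, rfl⟩
    obtain ⟨r, hr, y, hy, e⟩ := exists_class hφ hK hq G hG hO g.2 ((Subgroup.orderOf_coe g).trans hg)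
    rcases hr with rfl | rfl
    · exact Or.inl (ConjClasses.mk_eq_mk_iff_isConj.2 (isConj_iff.2 ⟨⟨y, hy⟩, Subtype.ext (e.trans e1.symm)⟩))
    · exact Or.inr (ConjClasses.mk_eq_mk_iff_isConj.2 (isConj_iff.2 ⟨⟨y, hy⟩, Subtype.ext (e.trans e2.symm)⟩))
  rw [hset, Set.ncard_pair hne]

end Cfsg.Agent.Chev.D4Inv
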