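/-
Involutions of the unipotent group of type G2 in characteristic two, reduced by conjugation.
-/
import Mathlib

set_option autoImplicit false
set_option linter.unusedSectionVars false
set_option maxHeartbeats 1000000

namespace Cfsg.Agent.Chev.G2Inv

/-- Coordinates along the positive roots. -/
@[ext] structure V (F : Type*) where
  a : F
  b : F
  c : F
  d : F
  e : F
  f : F

variable {F : Type*} [Field F] [CharP F 2] {G : Type*} [Group G]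

/-- The commutator relations of the positive root elements and the action of two fundamental reflections. -/
structure Rels (p : ℕ → F → G) (n₀ n₁ : G) : Prop where
  add : ∀ r t u, p r t * p r u = p r (t + u)
  inj : ∀ v w : V F, p 6 v.a * p 7 v.b * p 8 v.c * p 9 v.d * p 10 v.e * p 11 v.f =
    p 6 w.a * p 7 w.b * p 8 w.c * p 9 w.d * p 10 w.e * p 11 w.f → v = w
  h67 : ∀ t u, p 7 u * p 6 t = p 6 t * p 7 u * (p 8 (t * u) * p 9 (t * u ^ 2) * p 10 (t * u ^ 3))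
  h78 : ∀ t u, p 8 u * p 7 t = p 7 t * p 8 u * (p 10 (t ^ 2 * u) * p 11 (t * u ^ 2))
  h79 : ∀ t u, p 9 u * p 7 t = p 7 t * p 9 u * p 10 (t * u)
  h89 : ∀ t u, p 9 u * p 8 t = p 8 t * p 9 u * p 11 (t * u)
  h610 : ∀ t u, p 10 u * p 6 t = p 6 t * p 10 u * p 11 (t * u)
  h68 : ∀ t u, Commute (p 6 t) (p 8 u)
  h69 : ∀ t u, Commute (p 6 t) (p 9 u)
  h710 : ∀ t u, Commute (p 7 t) (p 10 u)
  h810 : ∀ t u, Commute (p 8 t) (p 10 u)
  h910 : ∀ t u, Commute (p 9 t) (p 10 u)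
  h11 : ∀ r ∈ [6, 7, 8, 9, 10], ∀ t u, Commute (p r t) (p 11 u)
  m0 : ∀ r r', (r, r') ∈ [(6, 10), (10, 6), (8, 9), (9, 8), (11, 11)] → ∀ t, n₀ * p r t * n₀⁻¹ = p r' t
  m1 : ∀ r r', (r, r') ∈ [(7, 8), (8, 7), (9, 9), (10, 11), (11, 10)] → ∀ t, n₁ * p r t * n₁⁻¹ = p r' t

/-- Product of two coordinate vectors. -/
def vmul (x y : V F) : V F :=
  let c1 := x.c + y.a * x.b
  let d1 := x.d + y.a * x.b ^ 2
  let e1 := x.e + y.a * x.b ^ 3
  let f1 := x.f + y.a * x.e + x.c * y.a * x.b ^ 2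
  { a := x.a + y.a
    b := x.b + y.b
    c := c1 + y.c
    d := d1 + y.d
    e := e1 + y.b * d1 + y.b ^ 2 * c1 + y.e
    f := f1 + y.b * c1 ^ 2 + y.c * d1 + y.f }

/-- The element with given coordinates. -/
def el (p : ℕ → F → G) (v : V F) : G := p 6 v.a * p 7 v.b * p 8 v.c * p 9 v.d * p 10 v.e * p 11 v.f

variable {p : ℕ → F → G} {n₀ n₁ : G} (R : Rels p n₀ n₁)
include R

theorem p_zero (r : ℕ) : p r (0 : F) = 1 := by
  have := R.add r 0 0
  rwa [add_zero, mul_eq_left] at this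

theorem r11 (x : V F) (t : F) : el p x * p 11 t = el p { x with f := x.f + t } := by
  simp only [el, mul_assoc, R.add]

theorem r10 (x : V F) (t : F) : el p x * p 10 t = el p { x with e := x.e + t } := by
  simp only [el]
  rw [mul_assoc _ (p 11 x.f), ← (R.h11 10 (by simp) t x.f).eq, ← mul_assoc, mul_assoc _ (p 10 x.e), R.add]

theorem r9 (x : V F) (t : F) : el p x * p 9 t = el p { x with d := x.d + t } := by
  simp only [el]
  rw [mul_assoc _ (p 11 x.f), ← (R.h11 9 (by simp) t x.f).eq, ← mul_assoc, mul_assoc _ (p 10 x.e),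
    ← (R.h910 t x.e).eq, ← mul_assoc, mul_assoc _ (p 9 x.d), R.add]

theorem r8 (x : V F) (t : F) : el p x * p 8 t = el p { x with c := x.c + t, f := x.f + t * x.d } := by
  simp only [el]
  rw [mul_assoc _ (p 11 x.f), ← (R.h11 8 (by simp) t x.f).eq, ← mul_assoc, mul_assoc _ (p 10 x.e),
    ← (R.h810 t x.e).eq, ← mul_assoc, mul_assoc _ (p 9 x.d), R.h89]
  simp only [← mul_assoc]
  rw [mul_assoc _ (p 8 x.c) (p 8 t), R.add, mul_assoc _ (p 11 (t * x.d)), ← (R.h11 10 (by simp) x.e (t * x.d)).eq,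
    ← mul_assoc, mul_assoc _ (p 11 (t * x.d)), R.add, add_comm x.f]

theorem r7 (x : V F) (t : F) : el p x * p 7 t =
    el p { x with b := x.b + t, e := x.e + t * x.d + t ^ 2 * x.c, f := x.f + t * x.c ^ 2 } := by
  simp only [el]
  rw [mul_assoc _ (p 11 x.f), ← (R.h11 7 (by simp) t x.f).eq, ← mul_assoc, mul_assoc _ (p 10 x.e),
    ← (R.h710 t x.e).eq, ← mul_assoc, mul_assoc _ (p 9 x.d), R.h79]
  simp only [← mul_assoc]
  rw [mul_assoc _ (p 8 x.c) (p 7 t), R.h78]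
  simp only [← mul_assoc]
  rw [mul_assoc _ (p 7 x.b) (p 7 t), R.add, mul_assoc _ (p 11 (t * x.c ^ 2)),
    ← (R.h11 9 (by simp) x.d (t * x.c ^ 2)).eq, ← mul_assoc, mul_assoc _ (p 10 (t ^ 2 * x.c)),
    ← (R.h910 x.d (t ^ 2 * x.c)).eq, ← mul_assoc, mul_assoc _ (p 11 (t * x.c ^ 2)),
    ← (R.h11 10 (by simp) (t * x.d) (t * x.c ^ 2)).eq, ← mul_assoc, mul_assoc _ (p 10 (t ^ 2 * x.c)), R.add,
    mul_assoc _ (p 11 (t * x.c ^ 2)), ← (R.h11 10 (by simp) x.e (t * x.c ^ 2)).eq, ← mul_assoc,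
    mul_assoc _ _ (p 10 x.e), R.add, mul_assoc _ (p 11 (t * x.c ^ 2)), R.add]
  ring_nf

theorem r6 (x : V F) (t : F) : el p x * p 6 t =
    el p { a := x.a + t, b := x.b, c := x.c + t * x.b, d := x.d + t * x.b ^ 2, e := x.e + t * x.b ^ 3,
           f := x.f + t * x.e + x.c * t * x.b ^ 2 } := by
  simp only [el]
  rw [mul_assoc _ (p 11 x.f), ← (R.h11 6 (by simp) t x.f).eq, ← mul_assoc, mul_assoc _ (p 10 x.e), R.h610]
  simp only [← mul_assoc]
  rw [mul_assoc _ (p 9 x.d), ← (R.h69 t x.d).eq, ← mul_assoc, mul_assoc _ (p 8 x.c), ← (R.h68 t x.c).eq,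
    ← mul_assoc, mul_assoc _ (p 7 x.b), R.h67]
  simp only [← mul_assoc]
  rw [R.add, mul_assoc _ (p 10 (t * x.b ^ 3)), ← (R.h810 x.c (t * x.b ^ 3)).eq,
    ← mul_assoc, mul_assoc _ (p 9 (t * x.b ^ 2)), R.h89]
  simp only [← mul_assoc]
  rw [mul_assoc _ (p 8 (t * x.b)), R.add, mul_assoc _ (p 10 (t * x.b ^ 3)), ← (R.h910 x.d (t * x.b ^ 3)).eq,
    ← mul_assoc, mul_assoc _ (p 11 (x.c * t * x.b ^ 2)), ← (R.h11 9 (by simp) x.d (x.c * t * x.b ^ 2)).eq,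
    ← mul_assoc, mul_assoc _ (p 9 (t * x.b ^ 2)), R.add,
    mul_assoc _ (p 11 (x.c * t * x.b ^ 2)), ← (R.h11 10 (by simp) (t * x.b ^ 3) (x.c * t * x.b ^ 2)).eq,
    ← mul_assoc, mul_assoc _ (p 11 (x.c * t * x.b ^ 2)), ← (R.h11 10 (by simp) x.e (x.c * t * x.b ^ 2)).eq,
    ← mul_assoc, mul_assoc _ (p 10 (t * x.b ^ 3)), R.add, mul_assoc _ (p 11 (x.c * t * x.b ^ 2)), R.add,
    mul_assoc _ (p 11 _) (p 11 x.f), R.add]
  ring_nf

theorem el_mul (x y : V F) : el p x * el p y = el p (vmul x y) := by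
  have : el p x * el p y = el p x * p 6 y.a * p 7 y.b * p 8 y.c * p 9 y.d * p 10 y.e * p 11 y.f := by
    simp only [el, mul_assoc]
  rw [this, r6 R, r7 R, r8 R, r9 R, r10 R, r11 R]
  rfl

/-- Conjugate under the group generated by the root elements and the reflections. -/
def Sim (p : ℕ → F → G) (n₀ n₁ : G) (g g' : G) : Prop :=
  ∃ h ∈ Subgroup.closure (({n₀, n₁} : Set G) ∪ Set.range fun q : ℕ × F => p q.1 q.2), h * g * h⁻¹ = g'

theorem sim_trans {g g' g'' : G} (h₁ : Sim p n₀ n₁ g g') (h₂ : Sim p n₀ n₁ g' g'') : Sim p n₀ n₁ g g'' := by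
  obtain ⟨x, hx, rfl⟩ := h₁
  obtain ⟨y, hy, rfl⟩ := h₂
  exact ⟨y * x, mul_mem hy hx, by group⟩

theorem sim_p (r : ℕ) (t : F) (g : G) : Sim p n₀ n₁ g (p r t * g * p r t) := by
  refine ⟨p r t, Subgroup.subset_closure (Or.inr ⟨(r, t), rfl⟩), ?_⟩
  have hinv : (p r t)⁻¹ = p r t := inv_eq_of_mul_eq_one_right (by rw [R.add, CharTwo.add_self_eq_zero, p_zero R])
  rw [hinv]

theorem sim_n0 (a c d e f : F) :
    Sim p n₀ n₁ (el p ⟨a, 0, c, d, e, f⟩) (el p ⟨e, 0, d, c, a, f + c * d + a * e⟩) := by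
  refine ⟨n₀, Subgroup.subset_closure (Or.inl (Or.inl rfl)), ?_⟩
  have step : ∀ x y : G, n₀ * (x * y) * n₀⁻¹ = (n₀ * x * n₀⁻¹) * (n₀ * y * n₀⁻¹) := fun x y => by group
  have e1 : el p ⟨0, 0, 0, 0, a, 0⟩ * el p ⟨0, 0, 0, c, 0, 0⟩ * el p ⟨0, 0, d, 0, 0, 0⟩ *
      el p ⟨e, 0, 0, 0, 0, 0⟩ * el p ⟨0, 0, 0, 0, 0, f⟩ = el p ⟨e, 0, d, c, a, f + c * d + a * e⟩ := by
    rw [el_mul R, el_mul R, el_mul R, el_mul R]
    congr 1
    ext <;> simp only [vmul] <;> ring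
  rw [← e1]
  simp only [el, p_zero R, one_mul, mul_one, step]
  rw [R.m0 6 10 (by simp), R.m0 8 9 (by simp), R.m0 9 8 (by simp), R.m0 10 6 (by simp), R.m0 11 11 (by simp)]

theorem sim_n1 (b d e f : F) : Sim p n₀ n₁ (el p ⟨0, b, 0, d, e, f⟩) (el p ⟨0, 0, b, d, f, e⟩) := by
  refine ⟨n₁, Subgroup.subset_closure (Or.inl (Or.inr rfl)), ?_⟩
  have step : ∀ x y : G, n₁ * (x * y) * n₁⁻¹ = (n₁ * x * n₁⁻¹) * (n₁ * y * n₁⁻¹) := fun x y => by group
  simp only [el, p_zero R, one_mul, mul_one, step]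
  rw [R.m1 7 8 (by simp), R.m1 9 9 (by simp), R.m1 10 11 (by simp), R.m1 11 10 (by simp)]
  simp only [mul_assoc, (R.h11 10 (by simp) f e).eq]

theorem sq_eq_one {g g' : G} (hs : Sim p n₀ n₁ g g') (hg : g * g = 1) : g' * g' = 1 := by
  obtain ⟨h, -, rfl⟩ := hs
  rw [show h * g * h⁻¹ * (h * g * h⁻¹) = h * (g * g) * h⁻¹ by group, hg]
  group

theorem invol_eqs (v : V F) (hv : el p v * el p v = 1) :
    v.a * v.b = 0 ∧ v.b * (v.d + v.b * v.c) = 0 ∧ v.a * v.e + v.b * v.c ^ 2 + v.c * v.d = 0 := by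
  have h1 : el p v * el p v = el p ⟨0, 0, 0, 0, 0, 0⟩ := by rw [hv]; simp [el, p_zero R]
  rw [el_mul R] at h1
  have h2 := R.inj _ _ h1
  have hc := congrArg V.c h2
  have he := congrArg V.e h2
  have hf := congrArg V.f h2
  simp only [vmul] at hc he hf
  have two : (2 : F) = 0 := CharTwo.two_eq_zero
  have hab : v.a * v.b = 0 := by linear_combination hc - v.c * two
  refine ⟨hab, ?_, ?_⟩
  · linear_combination he - v.e * two - 3 * v.b ^ 2 * hab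
  · linear_combination hf - v.f * two - (4 * v.c * v.b + v.a * v.b ^ 2) * hab

theorem reduce_b0 [PerfectRing F 2] (a c d e f : F) (hg : el p ⟨a, 0, c, d, e, f⟩ * el p ⟨a, 0, c, d, e, f⟩ = 1)
    (hne : el p (⟨a, 0, c, d, e, f⟩ : V F) ≠ 1) :
    ∃ t : F, t ≠ 0 ∧ (Sim p n₀ n₁ (el p ⟨a, 0, c, d, e, f⟩) (p 11 t) ∨ Sim p n₀ n₁ (el p ⟨a, 0, c, d, e, f⟩) (p 9 t)) := by
  have two : (2 : F) = 0 := CharTwo.two_eq_zero
  have conj9 : ∀ d f : F, d ≠ 0 → Sim p n₀ n₁ (el p ⟨0, 0, 0, d, 0, f⟩) (p 9 d) := by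
    intro d f hd
    have := sim_p R 8 (f / d) (el p ⟨0, 0, 0, d, 0, f⟩)
    rw [show p 8 (f / d) = el p ⟨0, 0, f / d, 0, 0, 0⟩ by simp [el, p_zero R], el_mul R, el_mul R] at this
    convert this using 1
    rw [show p 9 d = el p ⟨0, 0, 0, d, 0, 0⟩ by simp [el, p_zero R]]
    congr 1
    ext <;> simp [vmul, hd, CharTwo.add_self_eq_zero]
  have main : ∀ a c d e f : F, a ≠ 0 → el p ⟨a, 0, c, d, e, f⟩ * el p ⟨a, 0, c, d, e, f⟩ = 1 →
      ∃ t : F, t ≠ 0 ∧ (Sim p n₀ n₁ (el p ⟨a, 0, c, d, e, f⟩) (p 11 t) ∨ Sim p n₀ n₁ (el p ⟨a, 0, c, d, e, f⟩) (p 9 t)) := by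
    intro a c d e f ha hg
    obtain ⟨w, hs1, hw⟩ : ∃ w : V F, Sim p n₀ n₁ (el p ⟨a, 0, c, d, e, f⟩) (el p w) ∧ w.a = a ∧ w.b = 0 ∧ w.c = 0 := by
      refine ⟨vmul (vmul ⟨0, c / a, 0, 0, 0, 0⟩ ⟨a, 0, c, d, e, f⟩) ⟨0, c / a, 0, 0, 0, 0⟩, ?_, ?_, ?_, ?_⟩
      · rw [← el_mul R, ← el_mul R]
        have := sim_p R 7 (c / a) (el p ⟨a, 0, c, d, e, f⟩)
        rwa [show p 7 (c / a) = el p ⟨0, c / a, 0, 0, 0, 0⟩ by simp [el, p_zero R]] at this
      · simp [vmul]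
      · simp [vmul, CharTwo.add_self_eq_zero]
      · simp [vmul, mul_div_cancel₀ _ ha, CharTwo.add_self_eq_zero]
    obtain ⟨a', b', c', d', e', f'⟩ := w
    obtain ⟨rfl, rfl, rfl⟩ := hw
    have he' : e' = 0 := by
      have := (invol_eqs R _ (sq_eq_one R hs1 hg)).2.2
      simpa [ha] using this
    subst he'
    have hs2 : Sim p n₀ n₁ (el p ⟨a', 0, 0, d', 0, f'⟩) (el p ⟨a', 0, 0, d', 0, 0⟩) := by
      have := sim_p R 10 (f' / a') (el p ⟨a', 0, 0, d', 0, f'⟩)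
      rw [show p 10 (f' / a') = el p ⟨0, 0, 0, 0, f' / a', 0⟩ by simp [el, p_zero R], el_mul R, el_mul R] at this
      convert this using 2
      ext <;> simp [vmul, mul_div_cancel₀ _ ha, CharTwo.add_self_eq_zero]
    have hs12 := sim_trans R hs1 hs2
    by_cases hd : d' = 0
    · subst hd
      refine ⟨a', ha, Or.inl (sim_trans R hs12 ?_)⟩
      refine sim_trans R (sim_n0 R a' 0 0 0 0) ⟨n₁, Subgroup.subset_closure (Or.inl (Or.inr rfl)), ?_⟩
      simp [el, p_zero R, R.m1 10 11 (by simp)]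
    obtain ⟨u, hu⟩ := (PerfectRing.bijective_frobenius (R := F) (p := 2)).2 (d' / a')
    change u ^ 2 = _ at hu
    have hud : a' * u ^ 2 = d' := by rw [hu, mul_div_cancel₀ _ ha]
    have hu0 : u ≠ 0 := fun e => hd (by rw [← hud, e]; simp)
    have hs3 : Sim p n₀ n₁ (el p ⟨a', 0, 0, d', 0, 0⟩) (el p ⟨a', 0, a' * u, 0, 0, a' ^ 2 * u ^ 3⟩) := by
      have := sim_p R 7 u (el p ⟨a', 0, 0, d', 0, 0⟩)
      rw [show p 7 u = el p ⟨0, u, 0, 0, 0, 0⟩ by simp [el, p_zero R], el_mul R, el_mul R] at this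
      convert this using 2
      ext <;> simp only [vmul] <;> (first
        | ring1
        | linear_combination (-(u : F)) * two
        | linear_combination (u : F) * two
        | linear_combination hud + d' * two
        | linear_combination -hud - d' * two
        | linear_combination (2 * a' * u ^ 3) * two - u * hud
        | linear_combination u * hud - (2 * a' * u ^ 3) * two)
    have hs4 := sim_trans R hs12 (sim_trans R hs3 (sim_n0 R a' (a' * u) 0 0 _))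
    have hs5 : Sim p n₀ n₁ (el p ⟨0, 0, 0, a' * u, a', a' ^ 2 * u ^ 3⟩) (el p ⟨0, 0, 0, a' * u, 0, a' ^ 2 * u ^ 3⟩) := by
      have := sim_p R 7 u⁻¹ (el p ⟨0, 0, 0, a' * u, a', a' ^ 2 * u ^ 3⟩)
      rw [show p 7 u⁻¹ = el p ⟨0, u⁻¹, 0, 0, 0, 0⟩ by simp [el, p_zero R], el_mul R, el_mul R] at this
      convert this using 2
      ext <;> simp only [vmul] <;> field_simp <;> ring_nf <;> simp [CharTwo.two_eq_zero]
    refine ⟨a' * u, mul_ne_zero ha hu0, Or.inr (sim_trans R ?_ (conj9 _ (a' ^ 2 * u ^ 3) (mul_ne_zero ha hu0)))⟩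
    refine sim_trans R ?_ hs5
    convert hs4 using 2
    ext <;> simp
  by_cases ha : a = 0
  · subst ha
    by_cases he : e = 0
    · subst he
      have hcd := (invol_eqs R _ hg).2.2
      simp only [zero_mul, mul_zero, zero_add, mul_eq_zero] at hcd
      by_cases hd : d = 0
      · subst hd
        by_cases hc : c = 0
        · subst hc
          refine ⟨f, fun hf => hne (by simp [hf, el, p_zero R]), Or.inl ⟨1, one_mem _, by simp [el, p_zero R]⟩⟩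
        · refine ⟨c, hc, Or.inr (sim_trans R (sim_n0 R 0 c 0 0 f) ?_)⟩
          exact conj9 c _ hc
      · obtain rfl := hcd.resolve_right hd
        exact ⟨d, hd, Or.inr (conj9 d f hd)⟩
    · have hs := sim_n0 R 0 c d e f
      obtain ⟨t, ht, h'⟩ := main e d c 0 _ he (sq_eq_one R hs hg)
      exact ⟨t, ht, h'.imp (sim_trans R hs) (sim_trans R hs)⟩
  · exact main a c d e f ha hg

theorem reduce [PerfectRing F 2] (v : V F) (hg : el p v * el p v = 1) (hne : el p v ≠ 1) :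
    ∃ t : F, t ≠ 0 ∧ (Sim p n₀ n₁ (el p v) (p 11 t) ∨ Sim p n₀ n₁ (el p v) (p 9 t)) := by
  obtain ⟨a, b, c, d, e, f⟩ := v
  by_cases hb : b = 0
  · subst hb; exact reduce_b0 R a c d e f hg hne
  have two : (2 : F) = 0 := CharTwo.two_eq_zero
  obtain ⟨hab, hbd, -⟩ := invol_eqs R _ hg
  obtain rfl : a = 0 := (mul_eq_zero.1 hab).resolve_right hb
  have hd : d = b * c := CharTwo.add_eq_zero.1 ((mul_eq_zero.1 hbd).resolve_left hb)
  have hs := sim_p R 6 (c / b) (el p ⟨0, b, c, d, e, f⟩)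
  rw [show p 6 (c / b) = el p ⟨c / b, 0, 0, 0, 0, 0⟩ by simp [el, p_zero R], el_mul R, el_mul R] at hs
  obtain ⟨e', f', hs'⟩ : ∃ e' f', Sim p n₀ n₁ (el p ⟨0, b, c, d, e, f⟩) (el p ⟨0, b, 0, 0, e', f'⟩) := by
    refine ⟨(vmul (vmul ⟨c / b, 0, 0, 0, 0, 0⟩ ⟨0, b, c, d, e, f⟩) ⟨c / b, 0, 0, 0, 0, 0⟩).e,
      (vmul (vmul ⟨c / b, 0, 0, 0, 0, 0⟩ ⟨0, b, c, d, e, f⟩) ⟨c / b, 0, 0, 0, 0, 0⟩).f, ?_⟩
    convert hs using 2
    ext
    · simp [vmul, CharTwo.add_self_eq_zero]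
    · simp [vmul]
    · simp [vmul, div_mul_cancel₀ _ hb, CharTwo.add_self_eq_zero]
    · simp only [vmul, hd]; field_simp; ring_nf; simp [CharTwo.two_eq_zero]
    · rfl
    · rfl
  have hs'' := sim_trans R hs' (sim_n1 R b 0 e' f')
  obtain ⟨h, -, hh⟩ := hs''
  obtain ⟨t, ht, h'⟩ := reduce_b0 R 0 b 0 f' e' (sq_eq_one R (sim_trans R hs' (sim_n1 R b 0 e' f')) hg)
    (fun e1 => hne (by rw [← hh, mul_inv_eq_one, mul_eq_left] at e1; exact e1))
  exact ⟨t, ht, h'.imp (sim_trans R (sim_trans R hs' (sim_n1 R b 0 e' f'))) (sim_trans R (sim_trans R hs' (sim_n1 R b 0 e' f')))⟩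

end Cfsg.Agent.Chev.G2Inv
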