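/-
The classes of involutions of the Chevalley group of type G2 in characteristic two.
-/
import Cfsg.Agent.Lib.Chev.Invol2.G2Reduce
import Cfsg.Agent.Lib.Chev.Cent
import Cfsg.Agent.Lib.Chev.Normal
import Cfsg.Agent.Lib.Chev.AllC

set_option autoImplicit false
set_option linter.unusedSectionVars false
set_option maxHeartbeats 1000000

namespace Cfsg.Agent.Chev.G2Inv

open Cfsg.Lie Cfsg.Agent.Chev

variable {F : Type*} [Field F] [CharP F 2]


theorem cast_eta (i r : ℕ) : (G2.pk.eta i r : F) = 1 := by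
  rcases G2.ok.eta_cases i r with e | e <;> simp [e, CharTwo.neg_eq]

theorem three_eq : (3 : F) = 1 := by
  have h2 : (2 : F) = 0 := CharTwo.two_eq_zero
  linear_combination h2

theorem rels : Rels (fun r t => G2.ok.xG (F := F) r t) (G2.ok.nG 0) (G2.ok.nG 1) := by
  have cm : ∀ r s, r < G2.pk.nroots → s < G2.pk.nroots → G2.pk.comm2 r s = true → ∀ t u : F,
      Commute (G2.ok.xG r t) (G2.ok.xG s u) := fun r s hr hs hc t u => G2.ok.comm2_commute ckComm_G2 hr hs hc t u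
  have mv : ∀ (r s : ℕ) (L : List (ℕ × ℤ × ℕ × ℕ)), r < G2.pk.nroots → s < G2.pk.nroots → s ≠ r →
      s ≠ G2.pk.ng r → G2.pk.cword r s = L → ∀ t u : F, G2.ok.xG s u * G2.ok.xG r t = G2.ok.xG r t * G2.ok.xG s u *
        (L.map fun g => G2.ok.xG g.1 ((g.2.1 : F) * t ^ g.2.2.1 * u ^ g.2.2.2)).prod :=
    fun r s L hr hs h1 h2 hL t u => hL ▸ G2.ok.comm_xG ckComm_G2 hr hs h1 h2 t u
  have hn : ∀ (i r r' : ℕ), i < G2.pk.rank → r < G2.pk.nroots → G2.pk.w i r = r' → ∀ t : F,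
      G2.ok.nG i * G2.ok.xG r t * (G2.ok.nG i)⁻¹ = G2.ok.xG r' t := fun i r r' hi hr e t => by
    rw [G2.ok.nG_xG hi hr, cast_eta, one_mul, e]
  refine ⟨G2.ok.xG_add, fun v w e => ?_, fun t u => ?_, fun t u => ?_, fun t u => ?_, fun t u => ?_, fun t u => ?_,
    cm 6 8 (by decide +kernel) (by decide +kernel) (by decide +kernel),
    cm 6 9 (by decide +kernel) (by decide +kernel) (by decide +kernel),
    cm 7 10 (by decide +kernel) (by decide +kernel) (by decide +kernel),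
    cm 8 10 (by decide +kernel) (by decide +kernel) (by decide +kernel),
    cm 9 10 (by decide +kernel) (by decide +kernel) (by decide +kernel), fun r hr => ?_, fun r r' hr => ?_,
    fun r r' hr => ?_⟩
  · have hu := G2.ok.prod_unique (F := F) [6, 7, 8, 9, 10, 11] (by decide) (by decide +kernel)
      (fun r => [v.a, v.b, v.c, v.d, v.e, v.f].getD (r - 6) 0) (fun r => [w.a, w.b, w.c, w.d, w.e, w.f].getD (r - 6) 0)
      (by simpa [mul_assoc] using e)
    exact V.ext (hu 6 (by simp)) (hu 7 (by simp)) (hu 8 (by simp)) (hu 9 (by simp)) (hu 10 (by simp)) (hu 11 (by simp))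
  · rw [mv 6 7 [(8, -1, 1, 1), (9, -1, 1, 2), (10, 1, 1, 3), (11, -2, 2, 3)] (by decide +kernel) (by decide +kernel)
      (by decide) (by decide +kernel) (by decide +kernel)]
    simp [CharTwo.neg_eq, CharTwo.two_eq_zero, G2.ok.xG_zero, mul_assoc]
  · rw [mv 7 8 [(9, 2, 1, 1), (10, -3, 2, 1), (11, -3, 1, 2)] (by decide +kernel) (by decide +kernel)
      (by decide) (by decide +kernel) (by decide +kernel)]
    simp [CharTwo.neg_eq, CharTwo.two_eq_zero, G2.ok.xG_zero, three_eq, mul_assoc]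
  · rw [mv 7 9 [(10, -3, 1, 1)] (by decide +kernel) (by decide +kernel) (by decide) (by decide +kernel) (by decide +kernel)]
    simp [CharTwo.neg_eq, three_eq]
  · rw [mv 8 9 [(11, -3, 1, 1)] (by decide +kernel) (by decide +kernel) (by decide) (by decide +kernel) (by decide +kernel)]
    simp [CharTwo.neg_eq, three_eq]
  · rw [mv 6 10 [(11, -1, 1, 1)] (by decide +kernel) (by decide +kernel) (by decide) (by decide +kernel) (by decide +kernel)]
    simp [CharTwo.neg_eq]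
  · simp only [List.mem_cons, List.not_mem_nil, or_false] at hr
    rcases hr with rfl | rfl | rfl | rfl | rfl <;>
      exact cm _ 11 (by decide +kernel) (by decide +kernel) (by decide +kernel)
  · simp only [List.mem_cons, List.not_mem_nil, or_false, Prod.mk.injEq] at hr
    rcases hr with ⟨rfl, rfl⟩ | ⟨rfl, rfl⟩ | ⟨rfl, rfl⟩ | ⟨rfl, rfl⟩ | ⟨rfl, rfl⟩ <;>
      exact hn 0 _ _ (by decide +kernel) (by decide +kernel) (by decide +kernel)
  · simp only [List.mem_cons, List.not_mem_nil, or_false, Prod.mk.injEq] at hr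
    rcases hr with ⟨rfl, rfl⟩ | ⟨rfl, rfl⟩ | ⟨rfl, rfl⟩ | ⟨rfl, rfl⟩ | ⟨rfl, rfl⟩ <;>
      exact hn 1 _ _ (by decide +kernel) (by decide +kernel) (by decide +kernel)

theorem exists_coords {g : GL chevG2.Idx F} (hg : g ∈ chevG2.posUnipotent F) :
    ∃ v : V F, g = el (fun r t => G2.ok.xG (F := F) r t) v := by
  obtain ⟨t, rfl⟩ := G2.ok.pos_normal_form ckComm_G2 hg
  refine ⟨⟨t 6, t 7, t 8, t 9, t 10, t 11⟩, ?_⟩
  rw [show posL G2.pk = [6, 7, 8, 9, 10, 11] by decide +kernel]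
  simp [el, mul_assoc]

theorem sim_group {g g' : GL chevG2.Idx F}
    (h : Sim (fun r t => G2.ok.xG (F := F) r t) (G2.ok.nG 0) (G2.ok.nG 1) g g') :
    ∃ x ∈ chevG2.group F, x * g * x⁻¹ = g' := by
  obtain ⟨x, hx, e⟩ := h
  refine ⟨x, ?_, e⟩
  refine (Subgroup.closure_le _).2 ?_ hx
  rintro y ((rfl | rfl) | ⟨q, rfl⟩)
  · exact G2.ok.monomial_le_group (G2.ok.nG_mem (by decide +kernel))
  · exact G2.ok.monomial_le_group (G2.ok.nG_mem (by decide +kernel))
  · exact G2.ok.mem_group_of_xG _ _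

theorem scale_one {i r : ℕ} (hi : i < G2.pk.rank) (hr : r < G2.pk.nroots) (hA : G2.pk.A i r = 1) {t : F}
    (ht : t ≠ 0) : ∃ x ∈ chevG2.group F, x * G2.ok.xG r t * x⁻¹ = G2.ok.xG r 1 := by
  have hs := G2.ok.sim_lt hi
  refine ⟨G2.ok.ht (G2.pk.sim i) t⁻¹, G2.ok.diagonal_le_group (G2.ok.ht_mem hs (inv_ne_zero ht)), ?_⟩
  rw [G2.ok.ht_eq hs (inv_ne_zero ht), G2.ok.dG_xG _ hr, G2.ok.pair_sim hi, hA, zpow_one, inv_mul_cancel₀ ht]

theorem long_orbit : ∀ l, WordOk G2.pk l → wl G2.pk l 11 ∈ [0, 1, 5, 6, 10, 11]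
  | [], _ => by simp [wl]
  | i :: l, hl => by
    have hstep : ∀ i < 2, ∀ r ∈ [0, 1, 5, 6, 10, 11], G2.pk.w i r ∈ [0, 1, 5, 6, 10, 11] := by decide +kernel
    exact hstep i (lt_of_lt_of_eq hl.head (by decide +kernel)) _ (long_orbit l hl.tail)

/-- The long and the short root involutions are not conjugate. -/
theorem not_conj {g : GL chevG2.Idx F} (hg : g ∈ chevG2.group F) : g * G2.ok.xG 11 (1 : F) * g⁻¹ ≠ G2.ok.xG 9 1 := by
  intro e
  have hall : ∀ s < G2.pk.nroots, G2.pk.isPos s = true → G2.pk.comm2 11 s = true := by decide +kernel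
  obtain ⟨b, hb, l, hl, u, hu, rfl⟩ := G2.ok.bruhat_exists ckComm_G2 hg
  have hu' := G2.ok.negS_le_pos l hu
  obtain ⟨v, hv, d, hd, rfl⟩ := G2.ok.mem_borel hb
  obtain ⟨c, rfl⟩ := G2.ok.mem_diagonal_iff.1 hd
  obtain ⟨σ, hσ, hx⟩ := G2.ok.nW_xG (F := F) l hl 11 (by decide +kernel)
  have hs := G2.ok.wl_lt l hl 11 (by decide +kernel)
  set s := wl G2.pk l 11 with hs_def
  set k : F := hchar G2.pk c s * (σ * 1)
  have hk : k ≠ 0 := mul_ne_zero ((G2.ok.isChar_hchar c).ne s hs) (mul_ne_zero (fun e => by simp [e] at hσ) one_ne_zero)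
  have hcu : u * G2.ok.xG 11 (1 : F) * u⁻¹ = G2.ok.xG 11 1 := by
    rw [← (G2.ok.commute_pos ckComm_G2 (by decide +kernel) hall 1 hu').eq, mul_inv_cancel_right]
  have key : v * G2.ok.xG s k * v⁻¹ = G2.ok.xG 9 1 := by
    rw [← e, ← G2.ok.hHom_xG c hs, ← (hx 1).1]
    nth_rewrite 1 [← hcu]
    group
  have hkey : G2.ok.xG s k = v⁻¹ * G2.ok.xG 9 1 * v := by rw [← key]; group
  have h9 : G2.ok.xG 9 (1 : F) ∈ chevG2.posUnipotent F := G2.ok.xG_mem_pos (by decide +kernel) _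
  have hsU : G2.ok.xG s k ∈ chevG2.posUnipotent F := hkey ▸ mul_mem (mul_mem (inv_mem hv) h9) hv
  have hpos : s ∈ [6, 10, 11] := by
    have := long_orbit l hl
    rw [← hs_def] at this
    have hp : G2.pk.isPos s = true := by
      by_contra hp
      have h1 : G2.ok.xG s k ∈ chevG2.borelSubgroup F ⊓ chevG2.negUnipotent F :=
        ⟨Subgroup.mem_sup_left hsU, G2.ok.xG_mem_neg hs (by simpa using hp) k⟩
      rw [G2.ok.borel_inf_neg, Subgroup.mem_bot, ← G2.ok.xG_zero s] at h1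
      exact hk (G2.ok.xG_inj_param hs h1)
    have h6 : ∀ r ∈ [0, 1, 5, 6, 10, 11], G2.pk.isPos r = true → r ∈ [6, 10, 11] := by decide +kernel
    exact h6 s this hp
  obtain ⟨w, hw⟩ := exists_coords hv
  have e2 : G2.ok.xG 9 (1 : F) * v = v * G2.ok.xG s k := by rw [hkey]; group
  rw [hw] at e2
  simp only [List.mem_cons, List.not_mem_nil, or_false] at hpos
  have R := rels (F := F)
  have z := fun r => p_zero R r
  rcases hpos with h | h | h <;> rw [h] at e2
  · rw [show G2.ok.xG 9 (1 : F) = el (fun r t => G2.ok.xG r t) ⟨0, 0, 0, 1, 0, 0⟩ by simp [el, G2.ok.xG_zero],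
      show G2.ok.xG 6 k = el (fun r t => G2.ok.xG r t) ⟨k, 0, 0, 0, 0, 0⟩ by simp [el, G2.ok.xG_zero],
      el_mul R, el_mul R] at e2
    have := congrArg V.a (R.inj _ _ e2)
    simp [vmul] at this
    exact hk this
  · rw [show G2.ok.xG 9 (1 : F) = el (fun r t => G2.ok.xG r t) ⟨0, 0, 0, 1, 0, 0⟩ by simp [el, G2.ok.xG_zero],
      show G2.ok.xG 10 k = el (fun r t => G2.ok.xG r t) ⟨0, 0, 0, 0, k, 0⟩ by simp [el, G2.ok.xG_zero],
      el_mul R, el_mul R] at e2
    have h1 := congrArg V.d (R.inj _ _ e2)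
    have h2 := congrArg V.b (R.inj _ _ e2)
    simp [vmul] at h1
  · rw [show G2.ok.xG 9 (1 : F) = el (fun r t => G2.ok.xG r t) ⟨0, 0, 0, 1, 0, 0⟩ by simp [el, G2.ok.xG_zero],
      show G2.ok.xG 11 k = el (fun r t => G2.ok.xG r t) ⟨0, 0, 0, 0, 0, k⟩ by simp [el, G2.ok.xG_zero],
      el_mul R, el_mul R] at e2
    have h1 := congrArg V.d (R.inj _ _ e2)
    simp [vmul] at h1

/-- Every involution is conjugate to one of the two root involutions. -/
theorem exists_class [Fintype F] {g : GL chevG2.Idx F} (hg : g ∈ chevG2.group F) (ho : orderOf g = 2) :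
    ∃ r ∈ [11, 9], ∃ x ∈ chevG2.group F, x * g * x⁻¹ = G2.ok.xG r (1 : F) := by
  haveI : Fact (Nat.Prime 2) := ⟨Nat.prime_two⟩
  haveI : PerfectRing F 2 := PerfectRing.ofFiniteOfIsReduced (R := F) 2
  obtain ⟨S, hS⟩ := G2.ok.pos_sylow (F := F) 2 ckComm_G2
  set g' : chevG2.group F := ⟨g, hg⟩
  have hp : IsPGroup 2 (Subgroup.zpowers g') := by
    refine IsPGroup.of_card (n := 1) ?_
    rw [Nat.card_zpowers, pow_one, ← ho, ← Subgroup.orderOf_coe]
  obtain ⟨T, hT⟩ := hp.exists_le_sylow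
  obtain ⟨x, hx⟩ := MulAction.exists_smul_eq (chevG2.group F) T S
  have hxU : ((x * g' * x⁻¹ : chevG2.group F) : GL chevG2.Idx F) ∈ chevG2.posUnipotent F := by
    have h1 : x * g' * x⁻¹ ∈ ((x • T : Sylow 2 (chevG2.group F)) : Subgroup (chevG2.group F)) := by
      rw [Sylow.coe_subgroup_smul, Subgroup.mem_pointwise_smul_iff_inv_smul_mem]
      simpa [mul_assoc] using hT (Subgroup.mem_zpowers g')
    rw [hx, hS, Subgroup.mem_subgroupOf] at h1
    exact h1
  obtain ⟨v, hv⟩ := exists_coords hxU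
  push_cast at hv
  change (x : GL chevG2.Idx F) * g * (x : GL chevG2.Idx F)⁻¹ = _ at hv
  have R := rels (F := F)
  have hsq : el (fun r t => G2.ok.xG r t) v * el (fun r t => G2.ok.xG r t) v = (1 : GL chevG2.Idx F) := by
    rw [← hv, show (x : GL chevG2.Idx F) * g * (x : GL chevG2.Idx F)⁻¹ * ((x : GL chevG2.Idx F) * g * (x : GL chevG2.Idx F)⁻¹) =
      x * (g * g) * (x : GL chevG2.Idx F)⁻¹ by group, ← pow_two, ← ho, pow_orderOf_eq_one]
    group
  have hne : el (fun r t => G2.ok.xG r t) v ≠ (1 : GL chevG2.Idx F) := by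
    rw [← hv]
    intro e
    have : g = 1 := by simpa using e
    rw [this, orderOf_one] at ho
    omega
  obtain ⟨t, ht, hcase⟩ := reduce R v hsq hne
  rw [← hv] at hcase
  rcases hcase with hc | hc
  · obtain ⟨y, hy, e⟩ := sim_group hc
    obtain ⟨z, hz, ez⟩ := scale_one (i := 1) (r := 11) (by decide +kernel) (by decide +kernel) (by decide +kernel) ht
    refine ⟨11, by simp, z * y * x, mul_mem (mul_mem hz hy) x.2, ?_⟩
    rw [← ez, ← e]; group
  · obtain ⟨y, hy, e⟩ := sim_group hc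
    obtain ⟨z, hz, ez⟩ := scale_one (i := 0) (r := 9) (by decide +kernel) (by decide +kernel) (by decide +kernel) ht
    refine ⟨9, by simp, z * y * x, mul_mem (mul_mem hz hy) x.2, ?_⟩
    rw [← ez, ← e]; group

end Cfsg.Agent.Chev.G2Inv
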